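import Cfsg.Agent.TwoF.DC.D1.Main_m3
import Cfsg.Agent.TwoF.DC.TE.Tw_m3
import Cfsg.Agent.H69.OutTwD4
import Cfsg.Agent.TwoF.DC.TE.Main
import Cfsg.Agent.S1071
import Cfsg.Agent.S1082
import Cfsg.Agent.S2097
import Cfsg.Agent.S2098
import Cfsg.Agent.S2110
import Cfsg.Agent.S2129
import Cfsg.Agent.S2607
import Cfsg.Agent.S2608
import Cfsg.Agent.ChevFast.E8
import Cfsg.Agent.ChevFast.Lin
import Cfsg.Agent.Prune
set_option linter.all false
prune_inst 0x7f00000000000000000000000000000000000000000000000000000000000000000000000000000000000000000000000000000000000000000000000000000000000000000000000000000000000000003fffffffffffffffffffffffffffbeffbdffffffff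
open scoped Cfsg.Agent.FastGrp

-- part: TwoF/DC/D4/Tab
section
/-!
# TwoF, defining characteristic, type `D4`: the tables (generated; helper37)
-/

set_option autoImplicit false
set_option maxRecDepth 100000

namespace Cfsg.Agent.TwoF.DC.D4

open Cfsg.Agent.TwoF.DC.TE

/-- the Cartan matrix -/
def cm : List (List ℤ) :=
  [[p2, m1, p0, p0],
   [m1, p2, m1, m1],
   [p0, m1, p2, p0],
   [p0, m1, p0, p2]]

/-- the positive roots -/
def rt : List RE :=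
  [
    ([p1, p2, p1, p1], [p0, p1, p0, p0], nat_lit 0, nat_lit 0),
    ([p1, p1, p1, p1], [p1, m1, p1, p1], nat_lit 1, nat_lit 0),
    ([p1, p1, p1, p0], [p1, p0, p1, m1], nat_lit 2, nat_lit 0),
    ([p1, p1, p0, p1], [p1, p0, m1, p1], nat_lit 2, nat_lit 0),
    ([p0, p1, p1, p1], [m1, p0, p1, p1], nat_lit 2, nat_lit 0),
    ([p1, p1, p0, p0], [p1, p1, m1, m1], nat_lit 12, nat_lit 16),
    ([p0, p1, p1, p0], [m1, p1, p1, m1], nat_lit 20, nat_lit 8),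
    ([p0, p1, p0, p1], [m1, p1, m1, p1], nat_lit 24, nat_lit 4),
    ([p1, p0, p0, p0], [p2, m1, p0, p0], nat_lit 32, nat_lit 208),
    ([p0, p1, p0, p0], [m1, p2, m1, m1], nat_lit 224, nat_lit 258),
    ([p0, p0, p1, p0], [p0, m1, p2, p0], nat_lit 64, nat_lit 680),
    ([p0, p0, p0, p1], [p0, m1, p0, p2], nat_lit 128, nat_lit 612)]

theorem chk_rt : chkR 4 cm rt = true := by decide +kernel

/-- the orbit of [p1, p0, p0, p0] -/
def w0 : List WE :=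
  [
    (nat_lit 8, nat_lit 0, [m1, p0, p0, p0], nat_lit 303), (nat_lit 9, nat_lit 0, [p1, m1, p0, p0], nat_lit 721),
    (nat_lit 10, nat_lit 0, [p0, p1, m1, m1], nat_lit 3090), (nat_lit 11, nat_lit 1, [p0, p0, p1, m1], nat_lit 2184),
    (nat_lit 10, nat_lit 0, [p0, p0, m1, p1], nat_lit 1092), (nat_lit 9, nat_lit 0, [p0, m1, p1, p1], nat_lit 544),
    (nat_lit 8, nat_lit 0, [m1, p1, p0, p0], nat_lit 256), (nat_lit 999, nat_lit 999, [p1, p0, p0, p0], nat_lit 0)]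

/-- the orbit of [p0, p1, p0, p0] -/
def w1 : List WE :=
  [
    (nat_lit 9, nat_lit 0, [p0, m1, p0, p0], nat_lit 767), (nat_lit 11, nat_lit 0, [m1, p1, m1, m1], nat_lit 3359),
    (nat_lit 8, nat_lit 2, [m1, p0, m1, p1], nat_lit 1383), (nat_lit 11, nat_lit 1, [p1, p0, m1, m1], nat_lit 3283),
    (nat_lit 11, nat_lit 1, [m1, p0, p1, m1], nat_lit 2475), (nat_lit 9, nat_lit 3, [p1, m1, m1, p1], nat_lit 1621),
    (nat_lit 9, nat_lit 1, [m1, m1, p1, p1], nat_lit 813), (nat_lit 11, nat_lit 2, [p1, m1, p1, m1], nat_lit 2713),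
    (nat_lit 8, nat_lit 3, [m2, p1, p0, p0], nat_lit 302), (nat_lit 10, nat_lit 3, [p0, p1, m2, p0], nat_lit 1110),
    (nat_lit 5, nat_lit 1, [p1, m2, p1, p1], nat_lit 737), (nat_lit 7, nat_lit 2, [p0, p1, p0, m2], nat_lit 2202),
    (nat_lit 9, nat_lit 3, [p2, m1, p0, p0], nat_lit 720), (nat_lit 9, nat_lit 3, [p0, m1, p2, p0], nat_lit 680),
    (nat_lit 8, nat_lit 1, [m1, p2, m1, m1], nat_lit 3330), (nat_lit 9, nat_lit 2, [p0, m1, p0, p2], nat_lit 612),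
    (nat_lit 10, nat_lit 2, [p1, p1, m1, m1], nat_lit 3088), (nat_lit 8, nat_lit 1, [m1, p1, p1, m1], nat_lit 2312),
    (nat_lit 8, nat_lit 1, [m1, p1, m1, p1], nat_lit 1284), (nat_lit 11, nat_lit 2, [p1, p0, p1, m1], nat_lit 2176),
    (nat_lit 10, nat_lit 1, [p1, p0, m1, p1], nat_lit 1088), (nat_lit 8, nat_lit 0, [m1, p0, p1, p1], nat_lit 288),
    (nat_lit 9, nat_lit 0, [p1, m1, p1, p1], nat_lit 512), (nat_lit 999, nat_lit 999, [p0, p1, p0, p0], nat_lit 0)]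

/-- the orbit of [p0, p0, p1, p0] -/
def w2 : List WE :=
  [
    (nat_lit 10, nat_lit 0, [p0, p0, m1, p0], nat_lit 1111), (nat_lit 9, nat_lit 0, [p0, m1, p1, p0], nat_lit 681),
    (nat_lit 8, nat_lit 0, [m1, p1, p0, m1], nat_lit 2314), (nat_lit 11, nat_lit 1, [p1, p0, p0, m1], nat_lit 2192),
    (nat_lit 8, nat_lit 0, [m1, p0, p0, p1], nat_lit 292), (nat_lit 9, nat_lit 0, [p1, m1, p0, p1], nat_lit 576),
    (nat_lit 10, nat_lit 0, [p0, p1, m1, p0], nat_lit 1024), (nat_lit 999, nat_lit 999, [p0, p0, p1, p0], nat_lit 0)]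

/-- the orbit of [p0, p0, p0, p1] -/
def w3 : List WE :=
  [
    (nat_lit 11, nat_lit 0, [p0, p0, p0, m1], nat_lit 2203), (nat_lit 9, nat_lit 0, [p0, m1, p0, p1], nat_lit 613),
    (nat_lit 8, nat_lit 0, [m1, p1, m1, p0], nat_lit 1286), (nat_lit 10, nat_lit 1, [p1, p0, m1, p0], nat_lit 1104),
    (nat_lit 8, nat_lit 0, [m1, p0, p1, p0], nat_lit 296), (nat_lit 9, nat_lit 0, [p1, m1, p1, p0], nat_lit 640),
    (nat_lit 11, nat_lit 0, [p0, p1, p0, m1], nat_lit 2048), (nat_lit 999, nat_lit 999, [p0, p0, p0, p1], nat_lit 0)]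

/-- the orbit of [p1, p0, p1, p0] -/
def w02 : List WE :=
  [
    (nat_lit 8, nat_lit 0, [m1, p0, m1, p0], nat_lit 1407), (nat_lit 9, nat_lit 1, [p1, m1, m1, p0], nat_lit 1751),
    (nat_lit 9, nat_lit 1, [m1, m1, p1, p0], nat_lit 943), (nat_lit 11, nat_lit 2, [p0, p1, m2, m1], nat_lit 3159),
    (nat_lit 11, nat_lit 3, [m2, p1, p0, m1], nat_lit 2351), (nat_lit 6, nat_lit 1, [p1, m2, p1, p0], nat_lit 761),
    (nat_lit 10, nat_lit 4, [p0, p0, m2, p1], nat_lit 1111), (nat_lit 11, nat_lit 3, [p0, m1, p2, m1], nat_lit 2729),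
    (nat_lit 8, nat_lit 4, [m2, p0, p0, p1], nat_lit 303), (nat_lit 11, nat_lit 3, [p2, m1, p0, m1], nat_lit 2769),
    (nat_lit 10, nat_lit 1, [m1, p2, m1, m2], nat_lit 3354), (nat_lit 9, nat_lit 4, [p0, m2, p2, p1], nat_lit 681),
    (nat_lit 7, nat_lit 3, [m1, p1, p1, m2], nat_lit 2442), (nat_lit 9, nat_lit 5, [p2, m2, p0, p1], nat_lit 721),
    (nat_lit 10, nat_lit 2, [p1, p1, m1, m2], nat_lit 3218), (nat_lit 10, nat_lit 2, [m1, p0, m1, p2], nat_lit 1380),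
    (nat_lit 8, nat_lit 4, [m2, p2, p0, m1], nat_lit 2314), (nat_lit 3, nat_lit 3, [p1, p0, p1, m2], nat_lit 2200),
    (nat_lit 9, nat_lit 3, [m1, m1, p1, p2], nat_lit 804), (nat_lit 10, nat_lit 4, [p0, p2, m2, m1], nat_lit 3090),
    (nat_lit 10, nat_lit 2, [p1, m1, m1, p2], nat_lit 1604), (nat_lit 11, nat_lit 4, [p2, p0, p0, m1], nat_lit 2192),
    (nat_lit 8, nat_lit 3, [m2, p1, p0, p1], nat_lit 292), (nat_lit 5, nat_lit 2, [p1, m2, p1, p2], nat_lit 608),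
    (nat_lit 11, nat_lit 3, [p0, p0, p2, m1], nat_lit 2184), (nat_lit 6, nat_lit 1, [p0, p1, m2, p1], nat_lit 1092),
    (nat_lit 9, nat_lit 2, [p2, m1, p0, p1], nat_lit 576), (nat_lit 8, nat_lit 1, [m1, p2, m1, p0], nat_lit 1280),
    (nat_lit 9, nat_lit 1, [p0, m1, p2, p1], nat_lit 544), (nat_lit 10, nat_lit 1, [p1, p1, m1, p0], nat_lit 1024),
    (nat_lit 8, nat_lit 0, [m1, p1, p1, p0], nat_lit 256), (nat_lit 999, nat_lit 999, [p1, p0, p1, p0], nat_lit 0)]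

/-- the orbit of [p1, p0, p0, p1] -/
def w03 : List WE :=
  [
    (nat_lit 8, nat_lit 0, [m1, p0, p0, m1], nat_lit 2495), (nat_lit 9, nat_lit 1, [p1, m1, p0, m1], nat_lit 2779),
    (nat_lit 8, nat_lit 1, [m1, m1, p0, p1], nat_lit 879), (nat_lit 10, nat_lit 2, [p0, p1, m1, m2], nat_lit 3227),
    (nat_lit 7, nat_lit 2, [p1, m2, p0, p1], nat_lit 757), (nat_lit 5, nat_lit 2, [m2, p1, m1, p0], nat_lit 1327),
    (nat_lit 11, nat_lit 4, [p0, p0, p1, m2], nat_lit 2203), (nat_lit 10, nat_lit 3, [p0, m1, m1, p2], nat_lit 1637),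
    (nat_lit 11, nat_lit 3, [m1, p2, m2, m1], nat_lit 3350), (nat_lit 9, nat_lit 3, [p2, m1, m1, p0], nat_lit 1745),
    (nat_lit 2, nat_lit 3, [m2, p0, p1, p0], nat_lit 303), (nat_lit 9, nat_lit 4, [p0, m2, p1, p2], nat_lit 613),
    (nat_lit 6, nat_lit 3, [m1, p1, m2, p1], nat_lit 1350), (nat_lit 11, nat_lit 3, [p1, p1, m2, m1], nat_lit 3154),
    (nat_lit 11, nat_lit 3, [m1, p0, p2, m1], nat_lit 2472), (nat_lit 6, nat_lit 3, [p2, m2, p1, p0], nat_lit 721),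
    (nat_lit 8, nat_lit 4, [m2, p2, m1, p0], nat_lit 1286), (nat_lit 2, nat_lit 3, [p1, p0, m2, p1], nat_lit 1108),
    (nat_lit 9, nat_lit 3, [m1, m1, p2, p1], nat_lit 808), (nat_lit 11, nat_lit 3, [p1, m1, p2, m1], nat_lit 2696),
    (nat_lit 10, nat_lit 3, [p0, p2, m1, m2], nat_lit 3090), (nat_lit 10, nat_lit 4, [p2, p0, m1, p0], nat_lit 1104),
    (nat_lit 8, nat_lit 3, [m2, p1, p1, p0], nat_lit 296), (nat_lit 5, nat_lit 2, [p1, m2, p2, p1], nat_lit 672),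
    (nat_lit 7, nat_lit 2, [p0, p1, p1, m2], nat_lit 2184), (nat_lit 10, nat_lit 2, [p0, p0, m1, p2], nat_lit 1092),
    (nat_lit 9, nat_lit 2, [p2, m1, p1, p0], nat_lit 640), (nat_lit 8, nat_lit 1, [m1, p2, p0, m1], nat_lit 2304),
    (nat_lit 9, nat_lit 1, [p0, m1, p1, p2], nat_lit 544), (nat_lit 11, nat_lit 1, [p1, p1, p0, m1], nat_lit 2048),
    (nat_lit 8, nat_lit 0, [m1, p1, p0, p1], nat_lit 256), (nat_lit 999, nat_lit 999, [p1, p0, p0, p1], nat_lit 0)]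

/-- the orbit of [p0, p0, p1, p1] -/
def w23 : List WE :=
  [
    (nat_lit 10, nat_lit 0, [p0, p0, m1, m1], nat_lit 3295), (nat_lit 9, nat_lit 1, [p0, m1, p1, m1], nat_lit 2747),
    (nat_lit 10, nat_lit 1, [p0, m1, m1, p1], nat_lit 1655), (nat_lit 8, nat_lit 2, [m1, p1, p0, m2], nat_lit 2459),
    (nat_lit 7, nat_lit 2, [p0, m2, p1, p1], nat_lit 749), (nat_lit 6, nat_lit 2, [m1, p1, m2, p0], nat_lit 1367),
    (nat_lit 11, nat_lit 4, [p1, p0, p0, m2], nat_lit 2203), (nat_lit 8, nat_lit 3, [m1, m1, p0, p2], nat_lit 869),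
    (nat_lit 11, nat_lit 3, [m2, p2, m1, m1], nat_lit 3342), (nat_lit 2, nat_lit 3, [p1, p0, m2, p0], nat_lit 1111),
    (nat_lit 9, nat_lit 3, [m1, m1, p2, p0], nat_lit 937), (nat_lit 9, nat_lit 4, [p1, m2, p0, p2], nat_lit 613),
    (nat_lit 5, nat_lit 3, [m2, p1, m1, p1], nat_lit 1318), (nat_lit 11, nat_lit 3, [p2, p0, m1, m1], nat_lit 3280),
    (nat_lit 11, nat_lit 3, [m2, p1, p1, m1], nat_lit 2346), (nat_lit 5, nat_lit 3, [p1, m2, p2, p0], nat_lit 681),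
    (nat_lit 8, nat_lit 4, [m1, p2, m2, p0], nat_lit 1286), (nat_lit 9, nat_lit 3, [p2, m1, m1, p1], nat_lit 1616),
    (nat_lit 2, nat_lit 3, [m2, p0, p1, p1], nat_lit 300), (nat_lit 11, nat_lit 3, [p2, m1, p1, m1], nat_lit 2704),
    (nat_lit 8, nat_lit 3, [m1, p2, p0, m2], nat_lit 2314), (nat_lit 10, nat_lit 4, [p1, p1, m2, p0], nat_lit 1104),
    (nat_lit 8, nat_lit 3, [m1, p0, p2, p0], nat_lit 296), (nat_lit 6, nat_lit 2, [p2, m2, p1, p1], nat_lit 704),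
    (nat_lit 7, nat_lit 2, [p1, p1, p0, m2], nat_lit 2192), (nat_lit 8, nat_lit 2, [m1, p0, p0, p2], nat_lit 292),
    (nat_lit 9, nat_lit 2, [p1, m1, p2, p0], nat_lit 640), (nat_lit 10, nat_lit 1, [p0, p2, m1, m1], nat_lit 3072),
    (nat_lit 9, nat_lit 1, [p1, m1, p0, p2], nat_lit 576), (nat_lit 11, nat_lit 1, [p0, p1, p1, m1], nat_lit 2048),
    (nat_lit 10, nat_lit 0, [p0, p1, m1, p1], nat_lit 1024), (nat_lit 999, nat_lit 999, [p0, p0, p1, p1], nat_lit 0)]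

end Cfsg.Agent.TwoF.DC.D4
end

-- part: TwoF/DC/D4/Mod
section
/-!
# TwoF, defining characteristic, type `D4` (2): the modules (helper37)
-/

set_option autoImplicit false
set_option linter.unusedSectionVars false
set_option linter.unusedVariables false

namespace Cfsg.Agent.TwoF.DC.D4

open Module Cfsg.Agent.TwoF.DC.TE

/-! ### more about tables -/

section gen

variable {l : ℕ} {Φ : Type} [Fintype Φ] [DecidableEq Φ] {R : RC (Fin l) Φ} {cm : List (List ℤ)} {F : List RE}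
  (h : Tb R cm F) {p : ℕ} {k L : Type} [Field k] [AddCommGroup L] [Module k L]
include h

theorem cnt_le [Fact p.Prime] [CharP k p] (H : HW R p k L) (j : Fin l) (hj : H.lam j ≠ 0) {W : List WE}
    (hW : chkW l F (uv l j) W = true) {S : Finset Φ} {I : ℕ}
    (h1 : ∀ m e, F[m]? = some e → I.testBit m = true → ∃ b ∈ S, tv l e.1 = R.vec (true, b))
    (h2 : ∀ m, I.testBit m = true → m < F.length) : cnt I W ≤ H.cL S := by
  obtain ⟨A, h4, h5⟩ := h.wts_filter (length_uv l j) hW fun e => !(e.2.2.2 &&& I).beq 0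
  rw [cnt_eq, ← h4]
  refine (h.x H).card_le_cL_of_le S (μ := tv l (uv l j)) (by rw [tv_uv]; exact HW.dom_single j)
    (by rw [tv_uv]; exact H.single_le hj) A fun ν hν => ?_
  obtain ⟨e, he, h6, rfl⟩ := h5 ν hν
  obtain ⟨h7, h8, h9⟩ := (h.wts (length_uv l j) hW).2 e he
  refine ⟨h8, ?_⟩
  have h10 : e.2.2.2 &&& I ≠ 0 := fun h => by rw [h] at h6; exact absurd h6 (by decide)
  obtain ⟨m, hm⟩ := Nat.exists_testBit_of_ne_zero h10
  rw [Nat.testBit_and, Bool.and_eq_true] at hm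
  have h11 := List.getElem?_eq_getElem (h2 m hm.2)
  obtain ⟨b, hb, h12⟩ := h1 m _ h11 hm.2
  exact ⟨b, hb, by rw [h.pair_tv h12 h7.le]; exact isNeg_iff.mp (allBits_sound h9 h11 hm.1)⟩

theorem ext_mem (H : HW R p k L) {μ : List ℤ} (hμ : μ.length = l) (hl : H.lz = tv l μ) {W : List WE}
    (hW : chkW l F μ W = true) {f : List ℤ} {r : ℤ} (hc : chkCl l cm μ W f r = true) {ν : Fin l → ℤ} (hν : H.Ext ν) :
    ∃ e ∈ W, tv l e.2.2.1 = ν := by
  simp only [chkCl, Bool.and_eq_true] at hc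
  obtain ⟨⟨h1, h2⟩, h3⟩ := hc
  refine HW.Ext.mem (A := {ν | ∃ e ∈ W, tv l e.2.2.1 = ν}) ?_ ?_ hν
  · obtain ⟨e, he, h5⟩ := List.any_eq_true.mp h2
    exact ⟨e, he, by rw [eq_of_beq h5, hl]⟩
  · rintro _ ⟨e, he, rfl⟩ i
    have h6 := List.all_eq_true.mp h3 e he
    rw [Bool.and_eq_true] at h6
    obtain ⟨e', he', h7⟩ := List.any_eq_true.mp (List.all_eq_true.mp h6.2 i (List.mem_range.mpr i.2))
    refine ⟨e', he', ?_⟩
    have h8 : (cm.getD i []).length = l := by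
      have h9 : (i : ℕ) < cm.length := by rw [h.chk'.1]; exact i.2
      rw [List.getD_eq_getElem _ _ h9]
      exact Nat.beq_eq.mp (List.all_eq_true.mp h1 _ (List.getElem_mem h9))
    rw [eq_of_beq h7, tv_lin _ _ _ _ (((h.wts hμ hW).2 e he).1.trans h8.symm)]
    funext j
    rw [R.sw_apply, h.sym, h.hC]; rfl

/-- an upper bound for a minuscule module -/
theorem cG_le_tab (H : HW R p k L) (hm : H.Min) {μ : List ℤ} (hμ : μ.length = l) (hl : H.lz = tv l μ) {W : List WE}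
    (hW : chkW l F μ W = true) {f : List ℤ} {r : ℤ} (hc : chkCl l cm μ W f r = true) (S : Finset Φ) (Q : RE → Bool)
    (hS : ∀ b ∈ S, ∀ e : RE, tv l e.1 = R.vec (true, b) → Q e = true) :
    H.cG S ≤ (W.filter fun e => F.any fun e' => Q e' && isNeg (dot e'.1 e.2.2.1)).length := by
  classical
  refine (hm.cG_le S ((W.filter fun e => F.any fun e' => Q e' && isNeg (dot e'.1 e.2.2.1)).map
    fun e => tv l e.2.2.1).toFinset fun ν hν ⟨b, hb, h1⟩ => ?_).trans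
      ((List.toFinset_card_le _).trans (List.length_map _).le)
  obtain ⟨e, he, rfl⟩ := ext_mem h H hμ hl hW hc hν
  obtain ⟨e', he', h2⟩ := h.mem b
  rw [h.pair_tv h2 ((h.wts hμ hW).2 e he).1.le] at h1
  exact List.mem_toFinset.mpr (List.mem_map.mpr ⟨e, List.mem_filter.mpr ⟨he, List.any_eq_true.mpr
    ⟨e', he', by rw [hS b hb e' h2, isNeg_iff.mpr h1]; rfl⟩⟩, rfl⟩)

/-- positive at `a`, negative at `c` -/
def pn (a c : ℕ) (e : WE) : Bool := isNeg (-gz e.2.2.1 a) && isNeg (gz e.2.2.1 c)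

/-- weights with prescribed signs -/
theorem signs (H : HW R p k L) {μ : List ℤ} (hμ : μ.length = l) (hd : Dom (tv l μ)) {μ' : Fin l → ℤ} (hd' : Dom μ')
    (h0 : H.IsWt (tv l μ + μ')) {W : List WE} (hW : chkW l F μ W = true) (a c : Fin l) :
    ∃ B : Finset (Fin l → ℤ), B.card = (W.filter (pn a c)).length ∧ ∀ ν ∈ B, H.IsWt ν ∧ 0 < ν a ∧ ν c < 0 := by
  classical
  obtain ⟨A, h1, h2⟩ := h.wts_filter hμ hW (pn a c)
  have h3 : ∀ ν ∈ A, ∃ w, ν = R.swl w (tv l μ) := fun ν hν => by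
    obtain ⟨e, he, -, rfl⟩ := h2 ν hν
    exact ((h.wts hμ hW).2 e he).2.1
  choose! f hf using h3
  refine ⟨A.image fun ν => R.swl (f ν) (tv l μ + μ'), ?_, fun ν₀ hν₀ => ?_⟩
  · rw [← h1]
    exact Finset.card_image_of_injOn fun ν hν ν' hν' e => by
      rw [hf ν hν, hf ν' hν']; exact R.swl_eq_of_add hd hd' e
  obtain ⟨ν, hν, rfl⟩ := Finset.mem_image.mp hν₀
  have h4 : ∀ x, R.pair ν x < 0 → R.pair (R.swl (f ν) (tv l μ + μ')) x < 0 := fun x hx => by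
    rw [hf ν hν] at hx
    exact lt_of_le_of_lt (R.pair_swl_add_le hd hd' hx) hx
  obtain ⟨e, he, h5, rfl⟩ := h2 ν hν
  rw [pn, Bool.and_eq_true, isNeg_iff, isNeg_iff] at h5
  have h6 := h4 (false, R.zi a) (by rw [R.pair_false, R.pair_zi]; exact h5.1)
  have h7 := h4 (true, R.zi c) (by rw [R.pair_zi]; exact h5.2)
  rw [R.pair_false, R.pair_zi] at h6
  rw [R.pair_zi] at h7
  exact ⟨(H.isWt_swl _ _).mpr h0, by omega, h7⟩

end gen

/-! ### the checks -/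

/-- the fundamental orbits -/
def wv : Fin 4 → List WE := ![w0, w1, w2, w3]
/-- the large orbits -/
def wp : Fin 4 → List WE := ![w23, w1, w03, w02]
/-- their dominant weights -/
def mp : Fin 4 → List ℤ := ![[p0, p0, p1, p1], [p0, p1, p0, p0], [p1, p0, p0, p1], [p1, p0, p1, p0]]
/-- twice the fundamental coweights -/
def fv : Fin 4 → List ℤ := ![[p2, p2, p1, p1], [p2, p4, p2, p2], [p1, p2, p2, p1], [p1, p2, p1, p2]]

theorem chk_v : ∀ a : Fin 4, chkW 4 rt (uv 4 a) (wv a) = true ∧ 8 ≤ ((wv a).filter fun _ => true).length := by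
  (open scoped Cfsg.Agent.ChevFast.Lin in decide +kernel)
theorem chk_p : ∀ a, chkW 4 rt (mp a) (wp a) = true ∧ (mp a).length = 4 ∧ ∀ i, 0 ≤ tv 4 (mp a) i := by decide +kernel
theorem enum_v : ∀ a, enum (fun I n => n.beq 0 || ((fun n => min 4 (n / 2 + 2)) n).ble (cnt I (wv a))) rt 0 0 0 = true := by
  decide +kernel
theorem enum_p : ∀ a, enum (fun I n => n.beq 0 || ((fun n => 2 * n + 3) n).ble (cnt I (wp a))) rt 0 0 0 = true := by
  decide +kernel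
theorem enum_j : enum (fun I n => n.ble 6 && (n.beq 0 || (2 * n + 1).ble (cnt I (wv 0) + cnt I (wv 2) + cnt I (wv 3))))
    rt 0 0 0 = true := by decide +kernel
theorem cl_v : ∀ a b : Fin 4, a ≠ 1 → b ≠ 1 → chkCl 4 cm (uv 4 b) (wv b) (fv a) p4 = true := by decide +kernel
theorem pn_p : ∀ x a c : Fin 4, a ≠ 1 → c ≠ 1 → a ≠ c → 3 ≤ ((wp x).filter (pn a c)).length := by decide +kernel
theorem pn_v : ∀ b a c : Fin 4, a ≠ 1 → c ≠ 1 → a ≠ c → b ≠ a → b ≠ c → 1 ≤ ((wv b).filter (pn a c)).length := by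
  decide +kernel
theorem ends : ∀ a : Fin 4, a ≠ 1 → rt.all (fun e => !isNeg (1 - gz e.1 a)) = true ∧
    (rt.filter fun e => isNeg (-gz e.1 a)).length = 6 := by decide +kernel
theorem top_v : ∀ a b : Fin 4, a ≠ 1 → b ≠ 1 → a ≠ b →
    ((wv b).filter fun e => rt.any fun e' => isNeg (-gz e'.1 a) && isNeg (dot e'.1 e.2.2.1)).length ≤ 4 := by
  decide +kernel
theorem mp_le : ∀ x i : Fin 4, tv 4 (mp x) i ≤ 0 ∨ (tv 4 (mp x) i ≤ 1 ∧ (x = 1 → i = 1) ∧ (x ≠ 1 → i ≠ 1 ∧ i ≠ x)) := by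
  decide +kernel
theorem cm_end : ∀ a i : Fin 4, a ≠ 1 → gz (cm.getD i []) a = (if i = a then 2 else 0) - tv 4 (mp 1) i := by
  decide +kernel
theorem fv_cm : ∀ a j : Fin 4, ∑ i : Fin 4, tv 4 (fv a) i * gz (cm.getD i []) j = if j = a then 2 else 0 := by
  decide +kernel

variable {Φ : Type} [Fintype Φ] [DecidableEq Φ] {p : ℕ} [Fact p.Prime] {k : Type} [Field k] [CharP k p]
  {R : RC (Fin 4) Φ} (h : Tb R cm rt)
include h

theorem conn : R.Conn :=
  conn_of_par h.sym 1 ![1, 0, 1, 1] fun i => by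
    simp only [h.hC]; revert i; decide +kernel

theorem cf_le {a : Fin 4} (ha : a ≠ 1) (b : Φ) : R.cf b a ≤ 1 := by
  obtain ⟨e, h1, h2⟩ := h.all_rt (ends a ha).1 b
  rw [Bool.not_eq_true', ← Bool.not_eq_true, isNeg_iff] at h1
  have h3 : gz e.1 a = R.cf b a := (congrFun h2 a).trans (R.vec_true b a)
  omega

theorem card_le_six {S : Finset Φ} (hA : R.Ab p S) (hI : R.Idl p S) : S.card ≤ 6 := by
  obtain ⟨I, -, -, h3⟩ := h.ideal (Fact.out : p.Prime).ne_one enum_j hA hI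
  rw [Bool.and_eq_true, Nat.ble_eq] at h3
  exact h3.1

variable {L : Type} [AddCommGroup L] [Module k L] (H : HW R p k L)

theorem pair_one {a : Fin 4} (ha : a ≠ 1) (h1 : ∀ i, i ≠ a → H.lam i = 0) (b : Φ) :
    R.pair H.lz (true, b) ≤ H.lam a := by
  rw [RC.pair, cov_eq h.sym, Finset.sum_eq_single a (fun i _ hi => by rw [H.lz_apply, h1 i hi]; simp) (by simp),
    R.vec_true, H.lz_apply]
  have h6 : (R.cf b a : ℤ) ≤ 1 := by exact_mod_cast cf_le h ha b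
  nlinarith only [h6]

theorem eight_le : 8 ≤ H.d := by
  obtain ⟨j, hj⟩ := H.exists_lam_pos
  obtain ⟨A, h1, h2⟩ := h.wts_filter (length_uv 4 j) (chk_v j).1 fun _ => true
  obtain ⟨B, h3, h4⟩ := exists_ext H (HW.dom_single j) (H.single_le hj.ne') A fun ν hν => by
    obtain ⟨e, he, -, rfl⟩ := h2 ν hν
    rw [← tv_uv]
    exact ((h.wts (length_uv 4 j) (chk_v j).1).2 e he).2.1
  have h5 := H.card_le_d B fun ν hν => (h4 ν hν).1.isWt
  have h6 := (chk_v j).2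
  omega

/-- the bound for all modules -/
theorem small {S : Finset Φ} (hS : S.Nonempty) (hA : R.Ab p S) (hI : R.Idl p S) : min 4 (S.card / 2 + 2) ≤ H.cL S := by
  obtain ⟨j, hj⟩ := H.exists_lam_pos
  exact h.le_cL_single H j hj.ne' (chk_v j).1 (enum_v j) hS hA hI

/-- large modules -/
structure Lg (H : HW R p k L) : Prop where
  big : ∀ S : Finset Φ, S.Nonempty → R.Ab p S → R.Idl p S → 2 * S.card + 3 ≤ H.cL S
  three : ∀ a c : Fin 4, a ≠ 1 → c ≠ 1 → a ≠ c →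
    ∃ B : Finset (Fin 4 → ℤ), 3 ≤ B.card ∧ ∀ ν ∈ B, H.IsWt ν ∧ 0 < ν a ∧ ν c < 0

theorem lg_of_le (x : Fin 4) (hx : ∀ i, tv 4 (mp x) i ≤ H.lam i) : Lg H where
  big S hS hA hI := h.le_cL H (chk_p x).2.1 (chk_p x).2.2 hx (chk_p x).1 (enum_p x) hS hA hI
  three a c ha hc hac := by
    obtain ⟨B, h1, h2⟩ := signs h H (chk_p x).2.1 (chk_p x).2.2 (μ' := H.lz - tv 4 (mp x))
      (fun i => sub_nonneg.mpr (hx i)) (by rw [add_sub_cancel]; exact H.isWt_lz) (chk_p x).1 a c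
    exact ⟨B, h1 ▸ pn_p x a c ha hc hac, h2⟩

theorem lg_of_mult {a : Fin 4} (ha : a ≠ 1) (h1 : ∀ i, i ≠ a → H.lam i = 0) (h2 : 2 ≤ H.lam a) : Lg H := by
  have h3 : Dom (((H.lam a : ℤ) - 2) • (Pi.single a 1 : Fin 4 → ℤ)) := fun i =>
    mul_nonneg (by omega) (HW.dom_single a i)
  have h4 : H.IsWt (tv 4 (mp 1) + ((H.lam a : ℤ) - 2) • (Pi.single a 1 : Fin 4 → ℤ)) := by
    have h5 := (h.x H).isWt_sub H.ext_lz (x := (true, R.zi a)) (by rw [R.pair_zi, H.lz_apply]; omega)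
    convert h5 using 1
    funext i
    rw [Pi.sub_apply, R.wt_zi, h.hC, cm_end a i ha, H.lz_apply, Pi.add_apply, Pi.smul_apply]
    by_cases hi : i = a
    · rw [hi, if_pos rfl, Pi.single_eq_same, smul_eq_mul]; ring
    · rw [if_neg hi, Pi.single_eq_of_ne hi, h1 i hi]; simp
  refine ⟨fun S hS hA hI => ?_, fun a' c ha' hc hac => ?_⟩
  · obtain ⟨A, h5, h6⟩ := h.count (Fact.out : p.Prime).ne_one (chk_p 1).2.1 (chk_p 1).1 (enum_p 1) hS hA hI
    exact h5.trans (card_le_cL_wt H (pair_one h H ha h1) (by exact_mod_cast H.lam_lt a) S (chk_p 1).2.2 h3 h4 A h6)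
  · obtain ⟨B, h5, h6⟩ := signs h H (chk_p 1).2.1 (chk_p 1).2.2 h3 h4 (chk_p 1).1 a' c
    exact ⟨B, h5 ▸ pn_p 1 a' c ha' hc hac, h6⟩

theorem cls : (∃ a, a ≠ 1 ∧ H.lam = Pi.single a 1) ∨ Lg H := by
  by_cases h1 : ∃ x, ∀ i, tv 4 (mp x) i ≤ H.lam i
  · obtain ⟨x, hx⟩ := h1
    exact Or.inr (lg_of_le h H x hx)
  push Not at h1
  have h2 : ∀ x, ∃ i, H.lam i = 0 ∧ (x = 1 → i = 1) ∧ (x ≠ 1 → i ≠ 1 ∧ i ≠ x) := fun x => by
    obtain ⟨i, hi⟩ := h1 x
    rcases mp_le x i with h3 | h3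
    · omega
    · exact ⟨i, by omega, h3.2⟩
  obtain ⟨a, ha⟩ := H.exists_lam_pos
  have h3 : H.lam 1 = 0 := by
    obtain ⟨i, h3, h4, -⟩ := h2 1
    rwa [h4 rfl] at h3
  have ha1 : a ≠ 1 := by rintro rfl; omega
  have h4 : ∀ i, i ≠ a → H.lam i = 0 := fun i hi => by
    by_contra h4
    have hi1 : i ≠ 1 := by rintro rfl; exact h4 h3
    obtain ⟨x, hx1, hx⟩ : ∃ x : Fin 4, x ≠ 1 ∧ ∀ j, j ≠ 1 → j ≠ x → j = a ∨ j = i := by
      clear h4 ha; revert a i; decide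
    obtain ⟨j, h5, -, h6⟩ := h2 x
    rcases hx j (h6 hx1).1 (h6 hx1).2 with rfl | rfl
    · omega
    · exact h4 h5
  rcases Nat.lt_or_ge (H.lam a) 2 with h5 | h5
  · refine Or.inl ⟨a, ha1, funext fun i => ?_⟩
    by_cases h8 : i = a
    · rw [h8, Pi.single_eq_same]; omega
    · rw [h4 i h8, Pi.single_eq_of_ne h8]
  · exact Or.inr (lg_of_mult h H ha1 h4 h5)

variable {H} {b : Fin 4} (hb : b ≠ 1) (hl : H.lam = Pi.single b 1)
include hb hl

theorem lz_eq : H.lz = tv 4 (uv 4 b) := by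
  rw [tv_uv]
  funext i
  rw [H.lz_apply, hl, Pi.single_apply, Pi.single_apply]
  split <;> rfl

theorem min_of : H.Min := fun x => by
  have h1 := pair_one h H hb (fun i hi => by rw [hl, Pi.single_eq_of_ne hi]) x
  rwa [hl, Pi.single_eq_same] at h1

theorem dep_lt {a : Fin 4} (ha : a ≠ 1) {μ : Fin 4 → ℤ} (hμ : H.IsWt μ) : H.dep μ a < 3 := by
  have h1 := (h.minus H (min_of h hb hl) (length_uv 4 b) (lz_eq h hb hl) (chk_v b).1 (cl_v a b ha hb)).2 μ hμ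
  have h2 : H.lz - μ = R.toWt (H.dep μ) := by
    conv_lhs => rw [H.dep_spec hμ]
    rw [sub_sub_cancel]
  rw [← hd_sub, h2] at h1
  have h3 : ∀ c, hd (tv 4 (fv a)) (R.toWt c) = 2 * c a := fun c => by
    simp only [hd, RC.toWt, h.hC, Finset.mul_sum, ← mul_assoc]
    rw [Finset.sum_comm]
    simp only [← Finset.sum_mul, fv_cm]
    simp
  rw [h3] at h1
  change _ ≤ (4 : ℤ) at h1
  omega

theorem cG_le_four {a : Fin 4} (ha : a ≠ 1) (hab : a ≠ b) : H.cG (Finset.univ.filter fun x => 0 < R.cf x a) ≤ 4 :=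
  (cG_le_tab h H (min_of h hb hl) (length_uv 4 b) (lz_eq h hb hl) (chk_v b).1 (cl_v a b ha hb) _
    (fun e => isNeg (-gz e.1 a)) fun x hx e he => isNeg_iff.mpr (by
      have h1 : gz e.1 a = R.cf x a := (congrFun he a).trans (R.vec_true x a)
      have h2 := (Finset.mem_filter.mp hx).2
      omega)).trans (top_v a b ha hb hab)

theorem one_wt {a c : Fin 4} (ha : a ≠ 1) (hc : c ≠ 1) (hac : a ≠ c) (h1 : b ≠ a) (h2 : b ≠ c) :
    ∃ B : Finset (Fin 4 → ℤ), 1 ≤ B.card ∧ ∀ ν ∈ B, H.IsWt ν ∧ 0 < ν a ∧ ν c < 0 := by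
  obtain ⟨B, h3, h4⟩ := signs h H (length_uv 4 b) (by rw [tv_uv]; exact HW.dom_single b) (μ' := 0) (fun _ => le_rfl)
    (by rw [add_zero, ← lz_eq h hb hl]; exact H.isWt_lz) (chk_v b).1 a c
  exact ⟨B, h3 ▸ pn_v b a c ha hc hac h1 h2, h4⟩

end Cfsg.Agent.TwoF.DC.D4
end

-- part: TwoF/DC/D4/Cmb
section
/-!
# TwoF, defining characteristic, type `D4` (3): `Tws.Comb` for `D4` with triality and `3D4` (helper37)
-/

set_option autoImplicit false
set_option linter.unusedSectionVars false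
set_option linter.unusedVariables false

namespace Cfsg.Agent.TwoF.DC.D4

open Module Cfsg.Agent.TwoF.DC.TE

variable {Φ : Type} [Fintype Φ] [DecidableEq Φ] {p : ℕ} [Fact p.Prime] {k : Type} [Field k] [CharP k p]
  [Infinite k] {G : Type} [Group G] {D : RDat p (Fin 4) Φ k G} (h : Tb D.R cm rt)
include h

/-- the radical of a maximal parabolic subgroup is an offender -/
theorem good {σ : Equiv.Perm (Fin 4)} (F : Fam D σ) (h1 : Fintype.card F.J ≤ 3) (h2 : ∀ j, F.dbl j = false)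
    {a : Fin 4} (ha : a ≠ 1) (h3 : ∀ j, ∃ b, b ≠ 1 ∧ a ≠ b ∧ (F.H j).lam = Pi.single b 1) : F.Good 1 := by
  have h4 : 6 ≤ (Finset.univ.filter fun b => 0 < D.R.cf b a).card :=
    (ends a ha).2 ▸ h.card_filter _ _ fun e b hb he => by
      have h5 : gz e.1 a = D.R.cf b a := (congrFun hb a).trans (D.R.vec_true b a)
      rw [isNeg_iff] at he
      omega
  refine ⟨Finset.univ.filter fun b => 0 < D.R.cf b a, Finset.card_pos.mp (by omega), fun b hb => hb,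
    fun b hb b' hb' s t => ?_, fun j _ => ?_, fun j hj => absurd hj (by rw [h2]; simp), ?_⟩
  · have h5 := D.cm b b' s t
    rw [show {g | ∃ a u, (∃ m n : ℕ, 0 < m ∧ 0 < n ∧ D.R.cf a = m • D.R.cf b + n • D.R.cf b') ∧ g = D.z a u} = ∅ from ?_,
      Subgroup.closure_empty, Subgroup.mem_bot] at h5
    · exact commutatorElement_eq_one_iff_commute.mp h5
    · refine Set.eq_empty_of_forall_notMem ?_
      rintro g ⟨c, u, ⟨m, n, hm, hn, h6⟩, _⟩
      have h7 := congrFun h6 a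
      have h8 := cf_le h ha c
      have h9 := (Finset.mem_filter.mp hb).2
      have h10 := (Finset.mem_filter.mp hb').2
      simp only [Pi.add_apply, Pi.smul_apply, smul_eq_mul] at h7
      linarith only [h7, h8, Nat.mul_le_mul hm h9, Nat.mul_le_mul hn h10]
  · obtain ⟨b, hb, -, hl⟩ := h3 j
    refine (F.H j).cubic_of_lev _ (Pi.single a 1) (t := 1) (lo := 0) (fun b hb => ?_) fun μ hμ => ?_
    · rw [D.R.hv_single]; exact_mod_cast (Finset.mem_filter.mp hb).2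
    · rw [(F.H j).lev_single]
      exact ⟨(F.H j).dep_nonneg hμ a, by have := dep_lt h hb hl ha hμ; omega⟩
  · have h5 : F.valG (Finset.univ.filter fun b => 0 < D.R.cf b a) ≤ ∑ _j : F.J, 8 :=
      Finset.sum_le_sum fun j _ => by
        obtain ⟨b, hb, hab, hl⟩ := h3 j
        rw [h2 j, if_neg (by simp)]
        have h6 := cG_le_four h hb hl ha hab
        omega
    rw [Finset.sum_const, Finset.card_univ, smul_eq_mul] at h5
    omega

omit h in
theorem single_comp {a b : Fin 4} {γ : Equiv.Perm (Fin 4)}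
    (e : (Pi.single b 1 : Fin 4 → ℕ) = (Pi.single a 1 : Fin 4 → ℕ) ∘ γ.symm) : b = γ a := by
  by_contra h
  have h1 := congrFun e (γ a)
  rw [Function.comp_apply, Equiv.symm_apply_apply, Pi.single_eq_same, Pi.single_eq_of_ne (Ne.symm h)] at h1
  exact zero_ne_one h1

/-- all three modules of dimension eight -/
theorem joint {σ : Equiv.Perm (Fin 4)} (F : Fam D σ) (hall : ∀ a, a ≠ 1 → ∃ j, (F.H j).lam = Pi.single a 1)
    {S : Finset Φ} (hA : D.R.Ab p S) (hI : D.R.Idl p S) (t : F.J → ℕ) : ∃ e : Fin 4 → F.J,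
      (∀ a, a ≠ 1 → (F.H (e a)).lam = Pi.single a 1) ∧ t (e 0) + t (e 2) + t (e 3) ≤ ∑ j, t j ∧
      (S.card = 0 ∨ 2 * S.card + 1 ≤ (F.H (e 0)).cL S + (F.H (e 2)).cL S + (F.H (e 3)).cL S) := by
  classical
  choose! e he using hall
  have h1 : ∀ a b, a ≠ 1 → b ≠ 1 → e a = e b → a = b := fun a b ha hb hab => by
    have h2 := he a ha
    rw [hab, he b hb] at h2
    exact (single_comp (γ := 1) h2).symm
  have h2 : ∀ a, a ≠ 1 → (F.H (e a)).lam a ≠ 0 := fun a ha => by rw [he a ha]; simp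
  refine ⟨e, he, ?_, ?_⟩
  · have h3 := Finset.sum_le_sum_of_subset (f := t) (Finset.subset_univ {e 0, e 2, e 3})
    rw [Finset.sum_insert (by
      simp only [Finset.mem_insert, Finset.mem_singleton, not_or]
      exact ⟨fun x => absurd (h1 _ _ (by decide) (by decide) x) (by decide),
        fun x => absurd (h1 _ _ (by decide) (by decide) x) (by decide)⟩),
      Finset.sum_pair fun x => absurd (h1 _ _ (by decide) (by decide) x) (by decide)] at h3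
    omega
  · obtain ⟨I, h3, h4, h5⟩ := h.ideal (Fact.out : p.Prime).ne_one enum_j hA hI
    rw [Bool.and_eq_true, Bool.or_eq_true, Nat.beq_eq, Nat.ble_eq, Nat.ble_eq] at h5
    have h6 := cnt_le h _ 0 (h2 0 (by decide)) (chk_v 0).1 h3 h4
    have h7 := cnt_le h _ 2 (h2 2 (by decide)) (chk_v 2).1 h3 h4
    have h8 := cnt_le h _ 3 (h2 3 (by decide)) (chk_v 3).1 h3 h4
    omega

variable (P : Tws D) (h1 : ∀ γ, P.gι γ 1 = 1) (hσ : P.σ = 1 ∨ ∀ a, a ≠ 1 → P.gι P.σ a ≠ a)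
include h1 hσ

theorem conclude (F : Fam D (P.gι P.σ)) (hd : ∀ j, F.dbl j = false)
    (hm : ∀ j, ∃ a, a ≠ 1 ∧ (F.H j).lam = Pi.single a 1) (hc : Fintype.card F.J ≤ 3)
    (hn : ¬ ∀ a, a ≠ 1 → ∃ j, (F.H j).lam = Pi.single a 1) : P.Q F := by
  rcases hσ with hσ | hσ
  · push Not at hn
    obtain ⟨a, ha, hn⟩ := hn
    refine Or.inl ?_
    rw [show P.gΦ P.σ = 1 by rw [hσ, map_one]]
    exact good h F hc hd ha fun j => by
      obtain ⟨b, hb, hl⟩ := hm j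
      exact ⟨b, hb, by rintro rfl; exact hn j hl, hl⟩
  · refine absurd (fun b hb => ?_) hn
    obtain ⟨j⟩ := F.neJ
    obtain ⟨a, ha, hl⟩ := hm j
    have h2 : ∀ j a, (F.H j).lam = Pi.single a 1 → (F.H (F.π j)).lam = Pi.single (P.gι P.σ a) 1 := fun j a hl => by
      obtain ⟨c, -, hc⟩ := hm (F.π j)
      rw [hc, single_comp (hc.symm.trans ((F.lam_π j).trans (by rw [hl])))]
    have h3 : ∀ π : Equiv.Perm (Fin 4), π 1 = 1 → (∀ a, a ≠ 1 → π a ≠ a) → ∀ a b, a ≠ 1 → b ≠ 1 →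
        b = a ∨ b = π a ∨ b = π (π a) := by decide +kernel
    rcases h3 _ (h1 _) hσ a b ha hb with rfl | rfl | rfl
    · exact ⟨j, hl⟩
    · exact ⟨_, h2 _ _ hl⟩
    · exact ⟨_, h2 _ _ (h2 _ _ hl)⟩

/-- `Comb` for `D4` and `3D4` -/
theorem comb : P.Comb fun _ => True where
  ex := ex_true 0
  ok_gr := fun _ _ _ => trivial
  faith := h.faith (conn h)
  ct := fun F _ _ _ S hS hA hI hv => by
    have h0 := hS.card_pos
    have h6 := card_le_six h hA hI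
    refine conclude h P h1 hσ F (fun j => ?_) (fun j => (cls h (F.H j)).resolve_right fun hL => ?_) ?_ fun hall => ?_
    · by_contra h3
      have h4 := le_trans (Finset.single_le_sum (f := fun j => if F.dbl j then
        (F.H j).cL S * (2 * (F.H j).d - (F.H j).cL S) else 2 * (F.H j).cL S) (fun _ _ => Nat.zero_le _)
        (Finset.mem_univ j)) hv
      rw [if_pos (by simpa using h3)] at h4
      have h5 := small h (F.H j) hS hA hI
      have h7 := (F.H j).cL_lt_d S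
      have h8 := eight_le h (F.H j)
      have h9 := Nat.mul_le_mul_left ((F.H j).cL S) (show 9 ≤ 2 * (F.H j).d - (F.H j).cL S by omega)
      omega
    · have h2 := one_le_val F S j
      have h3 := hL.big S hS hA hI
      omega
    · have h3 : ∑ _j : F.J, (S.card + 2) ≤ ∑ j, 2 * (F.H j).cL S := Finset.sum_le_sum fun j _ => by
        have := small h (F.H j) hS hA hI
        omega
      have h4 := two_cL_le_val F S
      rw [Finset.sum_const, Finset.card_univ, smul_eq_mul] at h3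
      nlinarith
    · obtain ⟨e, -, h3, h4⟩ := joint h F hall hA hI fun j => 2 * (F.H j).cL S
      have h5 := two_cL_le_val F S
      omega
  bg := fun γ _ _ _ L _ _ H _ => ⟨by have := eight_le h H; omega, fun S hS hA hI => by
    have h0 := hS.card_pos
    have h6 := card_le_six h hA hI
    have h5 := small h H hS hA hI
    have h7 := H.cL_lt_d S
    have h8 := eight_le h H
    have h9 := Nat.mul_le_mul_left (H.cL S) (show 9 ≤ 2 * H.d - H.cL S by omega)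
    omega⟩
  ctg := fun γ hγ _ _ F hd g _ _ O u _ _ _ _ _ S hSO hA hI h2 h3 => by
    obtain ⟨a, ha, hc⟩ : ∃ a, a ≠ 1 ∧ P.gι γ a ≠ a := by
      by_contra h4
      push Not at h4
      refine hγ (P.gι_inj (Equiv.ext fun i => ?_))
      rw [map_one]
      by_cases hi : i = 1
      · rw [hi]; exact h1 γ
      · exact h4 i hi
    have hc1 : P.gι γ a ≠ 1 := fun e => ha ((P.gι γ).injective (e.trans (h1 γ).symm))
    have h6 := card_le_six h hA hI
    rw [← hSO] at h3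
    generalize ht : (fun j => if hj : (F.H j).lam ∘ (P.gι γ).symm = (F.H j).lam then
      2 * ((F.H j).d - finrank k ↥(LinearMap.ker ((g j hj).g.toLinearMap - 1) ⊓
        ⨅ o ∈ O, LinearMap.ker ((F.H j).op (u o))))
      else 2 * (F.H j).d - finrank k ↥(⨅ o ∈ O, LinearMap.ker ((F.H j).op (u o)))) = t at h3
    replace h3 : ∑ j, t j ≤ 4 * S.card + 4 := h3
    have t1 : ∀ j, (F.H j).lam ∘ (P.gι γ).symm ≠ (F.H j).lam → 8 + (F.H j).cL S ≤ t j ∧ 2 * (F.H j).cL S ≤ t j :=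
      fun j hj => by
        rw [← ht]
        simp only [dif_neg hj]
        have h7 := h2 j
        have h8 := (F.H j).cL_add S
        have h9 := eight_le h (F.H j)
        omega
    have t2 : ∀ j, 2 * (F.H j).cL S ≤ t j := fun j => by
      by_cases hj : (F.H j).lam ∘ (P.gι γ).symm = (F.H j).lam
      · rw [← ht]
        simp only [dif_pos hj]
        have := (F.H j).fd
        have h8 := (Submodule.finrank_mono (inf_le_right (a := LinearMap.ker ((g j hj).g.toLinearMap - 1)))).trans (h2 j)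
        have h9 := (F.H j).cL_add S
        omega
      · exact (t1 j hj).2
    have t3 : ∀ j, (F.H j).lam ∘ (P.gι γ).symm = (F.H j).lam → ∀ B : Finset (Fin 4 → ℤ),
        (∀ ν ∈ B, (F.H j).IsWt ν ∧ 0 < ν a ∧ ν (P.gι γ a) < 0) → 2 * B.card ≤ t j := fun j hj B hB => by
      rw [← ht]
      simp only [dif_pos hj]
      have := (F.H j).fd
      have h9 := card_le_codim_fix _ (g j hj) (fun ν => 0 < ν a ∧ ν (P.gι γ a) < 0) (fun ν h9 h10 => by
        have h12 := h10.2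
        rw [Function.comp_apply, Equiv.symm_apply_apply] at h12
        omega) B hB
      have h10 := Submodule.finrank_mono (inf_le_left (a := LinearMap.ker ((g j hj).g.toLinearMap - 1))
        (b := ⨅ o ∈ O, LinearMap.ker ((F.H j).op (u o))))
      omega
    have t4 : ∀ j b, (F.H j).lam = Pi.single b 1 → (F.H j).lam ∘ (P.gι γ).symm = (F.H j).lam → b ≠ a ∧ b ≠ P.gι γ a :=
      fun j b hl hj => by
        rw [hl] at hj
        have h7 := single_comp hj.symm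
        exact ⟨fun e => hc (by rw [← e, ← h7]), fun e => hc ((P.gι γ).injective (by rw [← e, ← h7]))⟩
    have hm : ∀ j, ∃ a, a ≠ 1 ∧ (F.H j).lam = Pi.single a 1 := fun j => (cls h (F.H j)).resolve_right fun hL => by
      have h7 := Finset.single_le_sum (f := t) (fun _ _ => Nat.zero_le _) (Finset.mem_univ j)
      by_cases hS : S.Nonempty
      · have h8 := hL.big S hS hA hI
        have h9 := t2 j
        omega
      · rw [Finset.not_nonempty_iff_eq_empty.mp hS, Finset.card_empty] at h3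
        by_cases hj : (F.H j).lam ∘ (P.gι γ).symm = (F.H j).lam
        · obtain ⟨B, h8, h9⟩ := hL.three a _ ha hc1 hc.symm
          have h10 := t3 j hj B h9
          omega
        · have h8 := (t1 j hj).1
          omega
    refine conclude h P h1 hσ F hd hm ?_ fun hall => ?_
    · have h7 : ∑ _j : F.J, (S.card + 2) ≤ ∑ j, t j := Finset.sum_le_sum fun j _ => by
        by_cases hS : S.Nonempty
        · have h8 := small h (F.H j) hS hA hI
          have h9 := t2 j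
          omega
        · rw [Finset.not_nonempty_iff_eq_empty.mp hS, Finset.card_empty]
          by_cases hj : (F.H j).lam ∘ (P.gι γ).symm = (F.H j).lam
          · obtain ⟨b, hb, hl⟩ := hm j
            obtain ⟨B, h8, h9⟩ := one_wt h hb hl ha hc1 hc.symm (t4 j b hl hj).1 (t4 j b hl hj).2
            have h10 := t3 j hj B h9
            omega
          · have h8 := (t1 j hj).1
            omega
      rw [Finset.sum_const, Finset.card_univ, smul_eq_mul] at h7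
      nlinarith only [h3, h7]
    · obtain ⟨e, he, h7, h8⟩ := joint h F hall hA hI t
      have h9 := (t1 (e a) fun hj => (t4 _ _ (he a ha) hj).1 rfl).1
      have h10 := (t1 (e (P.gι γ a)) fun hj => (t4 _ _ (he _ hc1) hj).2 rfl).1
      have h11 := t2 (e 0)
      have h12 := t2 (e 2)
      have h13 := t2 (e 3)
      generalize P.gι γ a = c at h10 hc hc1
      have h14 : (a = 0 ∨ a = 2 ∨ a = 3) ∧ (c = 0 ∨ c = 2 ∨ c = 3) := by
        clear h9 h10 t3 t4; revert a c; decide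
      obtain ⟨rfl | rfl | rfl, rfl | rfl | rfl⟩ := h14 <;> first | exact absurd rfl hc | omega
  ctf := fun _ J _ _ L _ _ H rep _ S hA hI sl hsl _ h2 => by
    exfalso
    obtain ⟨j⟩ := ‹Nonempty J›
    have h3 := le_trans (Finset.single_le_sum (f := fun j => (H j).d * ((H j).d - 1) + if S.Nonempty then 2 else 0)
      (fun _ _ => Nat.zero_le _) (Finset.mem_univ j)) h2
    have h4 := eight_le h (H j)
    have h5 := Nat.mul_le_mul h4 (show 7 ≤ (H j).d - 1 by omega)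
    have h6 := card_le_six h hA hI
    omega
  eight := fun _ L _ _ H S hA hI => by
    have h4 := eight_le h H
    have h5 := Nat.mul_le_mul h4 (show 7 ≤ H.d - 1 by omega)
    have h6 := card_le_six h hA hI
    omega

end Cfsg.Agent.TwoF.DC.D4
end

-- part: TwoF/DC/D4/Ins
section
/-!
# TwoF, defining characteristic, type `D4` (4): the Steinberg group of `D4` inside `E8`, triality (helper37)
-/

set_option autoImplicit false
set_option linter.unusedSectionVars false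
set_option linter.unusedVariables false

namespace Cfsg.Agent.TwoF.DC.D4

open Cfsg Cfsg.Lie Cfsg.Lie.ChevalleyDatum
open Cfsg.Agent.ChevalleyStructure Cfsg.Agent.ChevalleyStructure.Elts Cfsg.Agent.ChevalleyStructure.RootVec
  Cfsg.Agent.Nodes.RGDChev Cfsg.Agent.H45.UniE Cfsg.Agent.H405.UE Cfsg.Agent.TwoF.DC.RD
  Cfsg.Agent.ChevalleyStructure.CoxeterGeomTypes Cfsg.Agent.TwoF.DC.TE
open Cfsg.Agent.ChevalleyStructure.StBasic (sth)
open Cfsg.Agent.ChevalleyStructure.StTorus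
open Cfsg.Agent.ChevalleyStructure.StTheta (theta)
open Cfsg.Agent.H129.StCover (stMap stMap_stGen ker_theta)
open Cfsg.Agent.GpExc.Field (emb emb_injective glMap_xG glMap)
open Cfsg.Agent.BpExc.Emb (mem_range_of_pow)
open Cfsg.Agent.Nodes.RGDTwD4 (hp)
open Cfsg.Agent.H69.OutTwD4 (tw_le_iff hD4)

theorem good4 (i : ℕ) (hi : i < chevD4.rank) : GoodSimple chevD4 i := by
  obtain rfl | rfl | rfl | rfl : i = 0 ∨ i = 1 ∨ i = 2 ∨ i = 3 := by change i < 4 at hi; omega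
  · exact ⟨by decide +kernel, ⟨6, 22, 1, by decide +kernel⟩, ⟨1, 17, 1, by decide +kernel⟩, by decide +kernel⟩
  · exact ⟨by decide +kernel, ⟨1, 23, -1, by decide +kernel⟩, ⟨0, 22, -1, by decide +kernel⟩, by decide +kernel⟩
  · exact ⟨by decide +kernel, ⟨3, 22, -1, by decide +kernel⟩, ⟨1, 20, -1, by decide +kernel⟩, by decide +kernel⟩
  · exact ⟨by decide +kernel, ⟨2, 22, -1, by decide +kernel⟩, ⟨1, 21, -1, by decide +kernel⟩, by decide +kernel⟩

theorem exists_phi (k : Type) [Field k] : ∃ Φ : (Fin chevD4.rank → kˣ) →* chevD4.SteinbergGroup k,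
    (∀ (i : Fin chevD4.rank) (x : kˣ), Φ (Pi.mulSingle i x) = sth chevD4 (chevD4.simple i) (x : k)) ∧
      Subgroup.center (chevD4.SteinbergGroup k) ≤ Φ.range := by
  have hD7 : chevD4 ∈ [chevG2, chevB2, chevD4, chevF4, chevE6, chevE7, chevE8] := by simp
  have hs : ∀ i < chevD4.rank, chevD4.simple i < chevD4.nroots := fun i hi => (good4 i hi).1
  obtain ⟨θ, -, hker, hθ⟩ := Cfsg.Agent.S1077.result (K := k) chevD4 hD7
  have hcomm := pairwise_commute θ hker hθ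
    (fun i s hi hsn c hc t => Cfsg.Agent.S1032.result chevD4 hD7 i s hi hsn c hc t) hs fun i _ hi _ _ => Or.inl (good4 i hi)
  refine ⟨Phi hs hcomm, Phi_mulSingle hs hcomm, ?_⟩
  rw [← hker]
  exact (Cfsg.Agent.S1097.result chevD4 hD7 θ hθ).trans (closure_le_range_Phi hs hcomm)

theorem car4 : ∀ i j : Fin 4, cartanOf chevD4 4 i j = gz (cm.getD i []) j := by decide +kernel

theorem sl4 : Sl chevD4 4 where
  sym := by decide +kernel
  inj c h := by
    have h0 := h 0; have h1 := h 1; have h2 := h 2; have h3 := h 3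
    simp only [car4, Fin.sum_univ_four, cm, gz, p0, p2, m1, _root_.Fin.isValue, _root_.Int.ofNat_eq_natCast, _root_.Nat.cast_ofNat, _root_.Int.reduceNegSucc, _root_.CharP.cast_eq_zero, _root_.Int.reduceNeg, _root_.Fin.coe_ofNat_eq_mod, _root_.Nat.zero_mod, _root_.List.getD_eq_getElem?_getD, _root_.List.length_cons, _root_.List.length_nil, _root_.zero_add, _root_.Nat.reduceAdd, _root_.Nat.ofNat_pos, _root_.getElem?_pos, _root_.List.getElem_cons_zero, _root_.Option.getD_some, _root_.Fin.is_lt, _root_.Nat.one_mod, _root_.List.getElem_cons_succ, _root_.neg_mul, _root_.one_mul, _root_.Nat.reduceMod, _root_.MulZeroClass.zero_mul, _root_.add_zero, _root_.Nat.mod_succ, _root_.Nat.one_lt_ofNat, _root_.Nat.reduceLT, _root_.Nat.lt_add_one] at h0 h1 h2 h3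
    funext i
    fin_cases i <;> simp <;> (clear * - h0 h1 h2 h3; solve | lia | omega)
  pos := ⟨![3, 5, 3, 3], by decide +kernel, by decide +kernel⟩

/-- the roots of `D4` in `E8` -/
def i8 (r : ℕ) : ℕ :=
  [87, 91, 92, 96, 97, 98, 102, 103, 108, 109, 104, 113, 126, 135, 130, 131, 136, 137, 141, 142, 143, 147, 148, 152].getD r 0
/-- the signs -/
def e8 (r : ℕ) : ℤ := [1, 1, 1, 1, 1, 1, -1, -1, 1, 1, 1, 1, 1, 1, 1, 1, -1, -1, 1, 1, 1, 1, 1, 1].getD r 1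
/-- a transposition on the roots -/
def i2 (r : ℕ) : ℕ := [0, 1, 3, 2, 4, 5, 6, 8, 7, 9, 11, 10, 13, 12, 14, 16, 15, 17, 18, 19, 21, 20, 22, 23].getD r 0
/-- triality on the roots -/
def i3 (r : ℕ) : ℕ := [0, 1, 6, 2, 7, 10, 3, 8, 4, 9, 11, 5, 18, 12, 14, 19, 15, 20, 13, 16, 21, 17, 22, 23].getD r 0
/-- the signs -/
def e3 (r : ℕ) : ℤ := [1, 1, -1, 1, -1, 1, -1, 1, -1, 1, 1, 1, 1, 1, 1, -1, 1, -1, 1, -1, 1, -1, 1, 1].getD r 1

private theorem _root_.Cfsg.Agent.KObf4d1e5.e0.{ku, kv} {α : Type kv} {M : List α → Sort ku} (φ : ∀ l, M l) {z : M List.nil} {s : ∀ a l, M l → M (List.cons a l)} (h0 : φ List.nil = z) (hs : ∀ a l, φ (List.cons a l) = s a l (φ l)) (l : List α) : φ l = @List.rec α M z s l := List.rec h0 (fun a l ih => (hs a l).trans (congrArg (s a l) ih)) l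
private noncomputable def _root_.Cfsg.Agent.KObf4d1e5.k3 : type_of% @Int.mul := @(fun x0 x1 => @Int.rec.{1} @(fun x2 => ℤ) @(fun x2 => @Int.rec.{1} @(fun x3 => ℤ) @(fun x3 => @Int.ofNat (@Nat.mul @x2 @x3)) @(fun x3 => @Nat.rec.{1} @(fun x4 => ℤ) (@Int.ofNat (nat_lit 0)) @(fun x4 x5 => @Int.negSucc @x4) (@Nat.mul @x2 (@Nat.succ @x3))) @x1) @(fun x2 => @Int.rec.{1} @(fun x3 => ℤ) @(fun x3 => @Nat.rec.{1} @(fun x4 => ℤ) (@Int.ofNat (nat_lit 0)) @(fun x4 x5 => @Int.negSucc @x4) (@Nat.mul (@Nat.succ @x2) @x3)) @(fun x3 => @Int.ofNat (@Nat.mul (@Nat.succ @x2) (@Nat.succ @x3))) @x1) @x0)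
private theorem _root_.Cfsg.Agent.KObf4d1e5.e3 : @Int.mul = @_root_.Cfsg.Agent.KObf4d1e5.k3 := by delta _root_.Cfsg.Agent.KObf4d1e5.k3; rfl'
private noncomputable def _root_.Cfsg.Agent.KObf4d1e5.k11 : type_of% @Nat.decEq := @(fun x0 x1 => @Bool.rec.{1} @(fun x2 => (@Eq.{1} _ (@Nat.beq @x0 @x1) @x2) → @Decidable (@Eq.{1} _ @x0 @x1)) @(fun x2 => @Decidable.isFalse _ (@Nat.ne_of_beq_eq_false _ _ @x2)) @(fun x2 => @Decidable.isTrue _ (@Nat.eq_of_beq_eq_true _ _ @x2)) (@Nat.beq @x0 @x1) (@Eq.refl.{1} _ (@Nat.beq @x0 @x1)))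
private theorem _root_.Cfsg.Agent.KObf4d1e5.e11 : @Nat.decEq = @_root_.Cfsg.Agent.KObf4d1e5.k11 := by delta _root_.Cfsg.Agent.KObf4d1e5.k11; rfl'
private noncomputable def _root_.Cfsg.Agent.KObf4d1e5.k12 : type_of% @Int.decEq := @(fun x0 x1 => @Int.rec.{1} @(fun x2 => @Decidable (@Eq.{1} _ @x2 @x1)) @(fun x2 => @Int.rec.{1} @(fun x3 => @Decidable (@Eq.{1} _ (@Int.ofNat @x2) @x3)) @(fun x3 => @Decidable.rec.{1} _ @(fun x4 => @Decidable (@Eq.{1} _ (@Int.ofNat @x2) (@Int.ofNat @x3))) @(fun x4 => @Decidable.isFalse _ (@Int.decEq._proof_2 @x2 @x3 @x4)) @(fun x4 => @Decidable.isTrue _ (@Int.decEq._proof_1 @x2 @x3 @x4)) (@Cfsg.Agent.KObf4d1e5.k11 @x2 @x3)) @(fun x3 => @Decidable.isFalse _ (@Int.decEq._proof_3 @x2 @x3)) @x1) @(fun x2 => @Int.rec.{1} @(fun x3 => @Decidable (@Eq.{1} _ (@Int.negSucc @x2) @x3)) @(fun x3 => @Decidable.isFalse _ (@Int.decEq._proof_4 @x2 @x3)) @(fun x3 => @Decidable.rec.{1}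 _ @(fun x4 => @Decidable (@Eq.{1} _ (@Int.negSucc @x2) (@Int.negSucc @x3))) @(fun x4 => @Decidable.isFalse _ (@Int.decEq._proof_6 @x2 @x3 @x4)) @(fun x4 => @Decidable.isTrue _ (@Int.decEq._proof_5 @x2 @x3 @x4)) (@Cfsg.Agent.KObf4d1e5.k11 @x2 @x3)) @x1) @x0)
private theorem _root_.Cfsg.Agent.KObf4d1e5.e12 : @Int.decEq = @_root_.Cfsg.Agent.KObf4d1e5.k12 := by delta _root_.Cfsg.Agent.KObf4d1e5.k12; rewrite [← Cfsg.Agent.KObf4d1e5.e11]; rfl'
private noncomputable def _root_.Cfsg.Agent.KObf4d1e5.k19.{ku0} : type_of% @List.get?Internal.{ku0} := @(fun x0 x1 x2 => @List.rec.{(ku0+1), ku0} @x0 @(fun x3 => ℕ → @Option.{ku0} @x0) @(fun x3 => @Option.none.{ku0} _) @(fun x3 x4 x5 x6 => @Nat.rec.{(ku0+1)} @(fun x7 => @Option.{ku0} @x0) (@Option.some.{ku0} _ @x3) @(fun x7 x8 => @x5 @x7) @x6) @x1 @x2)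
private theorem _root_.Cfsg.Agent.KObf4d1e5.e19.{ku0} : @List.get?Internal.{ku0} = @_root_.Cfsg.Agent.KObf4d1e5.k19.{ku0} := by delta _root_.Cfsg.Agent.KObf4d1e5.k19; funext a0 a1 a2; refine (congrFun (_root_.Cfsg.Agent.KObf4d1e5.e0 (fun a1 a2 => @List.get?Internal.{ku0} a0 a1 a2) ?_ (fun c0 c1 => ?_) a1) a2 :) <;> [(funext b0; (rfl')); (funext b0; (cases b0 with | @zero  => (rfl') | @succ b0_0 => (rfl')))]
private noncomputable def _root_.Cfsg.Agent.KObf4d1e5.k21.{ku0, ku1} : type_of% @List.map.{ku0, ku1} := @(fun x0 x1 x2 x3 => @List.rec.{(ku1+1), ku0} @x0 @(fun x4 => @List.{ku1} @x1) [] @(fun x4 x5 x6 => (@x2 @x4) :: @x6) @x3)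
private theorem _root_.Cfsg.Agent.KObf4d1e5.e21.{ku0, ku1} : @List.map.{ku0, ku1} = @_root_.Cfsg.Agent.KObf4d1e5.k21.{ku0, ku1} := by delta _root_.Cfsg.Agent.KObf4d1e5.k21; funext a0 a1 a2 a3; refine (_root_.Cfsg.Agent.KObf4d1e5.e0 (fun a3 => @List.map.{ku0, ku1} a0 a1 a2 a3) ?_ (fun c0 c1 => ?_) a3 :) <;> (rfl')
private noncomputable def _root_.Cfsg.Agent.KObf4d1e5.k28 : type_of% @Decidable.decide := @(fun x0 x1 => @Decidable.rec.{1} _ @(fun x2 => @Bool) @(fun x2 => @Bool.false) @(fun x2 => @Bool.true) @x1)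
private theorem _root_.Cfsg.Agent.KObf4d1e5.e28 : @Decidable.decide = @_root_.Cfsg.Agent.KObf4d1e5.k28 := by delta _root_.Cfsg.Agent.KObf4d1e5.k28; rfl'
private noncomputable def _root_.Cfsg.Agent.KObf4d1e5.k29l (n : Nat) (P : ∀ k, k < n → Prop) (H : ∀ k h, Decidable (P k h)) (m : Nat) : m ≤ n → Bool := @Nat.rec (fun m => m ≤ n → Bool) (fun _ => true) (fun k ih h => @Decidable.rec (P k h) (fun _ => Bool) (fun _ => false) (fun _ => ih (Nat.le_of_succ_le h)) (H k h)) m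
private theorem _root_.Cfsg.Agent.KObf4d1e5.k29ls (n : Nat) (P : ∀ k, k < n → Prop) (H : ∀ k h, Decidable (P k h)) (m : Nat) : ∀ h : m ≤ n, _root_.Cfsg.Agent.KObf4d1e5.k29l n P H m h = true ↔ ∀ k (g : k < m), P k (Nat.lt_of_lt_of_le g h) := by induction m with | zero => exact fun _ => ⟨fun _ _ g => absurd g (Nat.not_lt_zero _), fun _ => rfl⟩ | succ m ih => intro h; show @Decidable.rec (P m h) (fun _ => Bool) (fun _ => false) (fun _ => _root_.Cfsg.Agent.KObf4d1e5.k29l n P H m (Nat.le_of_succ_le h)) (H m h) = true ↔ _; cases H m h with | isFalse q => exact ⟨fun g => absurd g Bool.false_ne_true, fun g => absurd (g m (Nat.lt_succ_self m)) q⟩ | isTrue q => exact ⟨fun g k hk => (Nat.lt_succ_iff_lt_or_eq.1 hk).elim ((ih _).1 g k) fun e => by subst e; exact q, fun g => (ih _).2 fun k hk => g k (Nat.lt_succ_of_lt hk)⟩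
private noncomputable def _root_.Cfsg.Agent.KObf4d1e5.k29 (n : Nat) (P : ∀ k, k < n → Prop) (H : ∀ k h, Decidable (P k h)) : Decidable (∀ k h, P k h) := @Bool.rec (fun b => _root_.Cfsg.Agent.KObf4d1e5.k29l n P H n (Nat.le_refl n) = b → Decidable (∀ k h, P k h)) (fun g => isFalse fun q => Bool.false_ne_true (g.symm.trans ((_root_.Cfsg.Agent.KObf4d1e5.k29ls n P H n _).2 fun k h => q k h))) (fun g => isTrue fun k h => (_root_.Cfsg.Agent.KObf4d1e5.k29ls n P H n _).1 g k h) (_root_.Cfsg.Agent.KObf4d1e5.k29l n P H n (Nat.le_refl n)) rfl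
private theorem _root_.Cfsg.Agent.KObf4d1e5.e29 : @Nat.decidableBallLT = @_root_.Cfsg.Agent.KObf4d1e5.k29 := funext fun _ => funext fun _ => funext fun _ => Subsingleton.elim _ _
private noncomputable def _root_.Cfsg.Agent.KObf4d1e5.k32 : type_of% @Bool.decEq := @(fun x0 x1 => @Bool.rec.{1} @(fun x2 => @Decidable (@Eq.{1} _ @x2 @x1)) (@Bool.rec.{1} @(fun x2 => @Decidable (@Eq.{1} _ @Bool.false @x2)) (@Decidable.isTrue _ (@rfl.{1} _ _)) (@Decidable.isFalse _ @(fun x2 => @Bool.noConfusion.{0} _ _ _ @x2)) @x1) (@Bool.rec.{1} @(fun x2 => @Decidable (@Eq.{1} _ @Bool.true @x2)) (@Decidable.isFalse _ @(fun x2 => @Bool.noConfusion.{0} _ _ _ @x2)) (@Decidable.isTrue _ (@rfl.{1} _ _)) @x1) @x0)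
private theorem _root_.Cfsg.Agent.KObf4d1e5.e32 : @Bool.decEq = @_root_.Cfsg.Agent.KObf4d1e5.k32 := by delta _root_.Cfsg.Agent.KObf4d1e5.k32; rfl'
private noncomputable def _root_.Cfsg.Agent.KObf4d1e5.k43 : type_of% @Nat.decLe := @(fun x0 x1 => @Decidable.rec.{1} _ @(fun x2 => @Decidable (@LE.le.{0} _ _ @x0 @x1)) @(fun x2 => @Decidable.isFalse _ (@Nat.not_le_of_not_ble_eq_true _ _ @x2)) @(fun x2 => @Decidable.isTrue _ (@Nat.le_of_ble_eq_true _ _ @x2)) (@Cfsg.Agent.KObf4d1e5.k32 (@Nat.ble @x0 @x1) @Bool.true))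
private theorem _root_.Cfsg.Agent.KObf4d1e5.e43 : @Nat.decLe = @_root_.Cfsg.Agent.KObf4d1e5.k43 := by delta _root_.Cfsg.Agent.KObf4d1e5.k43; rewrite [← Cfsg.Agent.KObf4d1e5.e32]; rfl'
private noncomputable def _root_.Cfsg.Agent.KObf4d1e5.k47 : type_of% @instDecidableEqNat := @Cfsg.Agent.KObf4d1e5.k11
private theorem _root_.Cfsg.Agent.KObf4d1e5.e47 : @instDecidableEqNat = @_root_.Cfsg.Agent.KObf4d1e5.k47 := by delta _root_.Cfsg.Agent.KObf4d1e5.k47; rewrite [← Cfsg.Agent.KObf4d1e5.e11]; rfl'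
private noncomputable def _root_.Cfsg.Agent.KObf4d1e5.k63 : (by first | exact type_of% @Cfsg.Agent.TwoF.DC.D4.i8 | exact Unit : Sort _) := by first | (refine @Subtype.val _ (fun g => @Cfsg.Agent.TwoF.DC.D4.i8 = @g) (@Subtype.mk _ _ (@(fun x0 => @Option.rec.{1, 0} ℕ @(fun x1 => ℕ) (nat_lit 0) @(fun x1 => @x1) (@Cfsg.Agent.KObf4d1e5.k19.{0} _ ((nat_lit 87) :: ((nat_lit 91) :: ((nat_lit 92) :: ((nat_lit 96) :: ((nat_lit 97) :: ((nat_lit 98) :: ((nat_lit 102) :: ((nat_lit 103) :: ((nat_lit 108) :: ((nat_lit 109) :: ((nat_lit 104) :: ((nat_lit 113) :: ((nat_lit 126) :: ((nat_lit 135) :: ((nat_lit 130) :: ((nat_lit 131) :: ((nat_lit 136) :: ((nat_lit 137) :: ((nat_lit 141) :: ((nat_lit 142) :: ((nat_lit 143) :: ((nat_lit 147) :: ((nat_lit 148) :: ((nat_lit 152) :: [])))))))))))))))))))))))) @x0))) ?_); rewrite [← Cfsg.Agent.KObf4d1e5.e19.{0}]; rfl') | exact @Cfsg.Agent.TwoF.DC.D4.i8 | exact ()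
private theorem _root_.Cfsg.Agent.KObf4d1e5.e63 : (by first | exact @Cfsg.Agent.TwoF.DC.D4.i8 = @_root_.Cfsg.Agent.KObf4d1e5.k63 | exact True : Prop) := by first | (delta _root_.Cfsg.Agent.KObf4d1e5.k63; exact @Subtype.property _ (fun g => @Cfsg.Agent.TwoF.DC.D4.i8 = @g) _) | rfl | trivial
private noncomputable def _root_.Cfsg.Agent.KObf4d1e5.k64 : type_of% @Int.instDecidableEq := @Cfsg.Agent.KObf4d1e5.k12
private theorem _root_.Cfsg.Agent.KObf4d1e5.e64 : @Int.instDecidableEq = @_root_.Cfsg.Agent.KObf4d1e5.k64 := by delta _root_.Cfsg.Agent.KObf4d1e5.k64; rewrite [← Cfsg.Agent.KObf4d1e5.e12]; rfl'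
private noncomputable def _root_.Cfsg.Agent.KObf4d1e5.k65 : (by first | exact type_of% @Cfsg.Agent.TwoF.DC.D4.e8 | exact Unit : Sort _) := by first | (refine @Subtype.val _ (fun g => @Cfsg.Agent.TwoF.DC.D4.e8 = @g) (@Subtype.mk _ _ (@(fun x0 => @Option.rec.{1, 0} ℤ @(fun x1 => ℤ) (@Int.ofNat (nat_lit 1)) @(fun x1 => @x1) (@Cfsg.Agent.KObf4d1e5.k19.{0} _ ((@Int.ofNat (nat_lit 1)) :: ((@Int.ofNat (nat_lit 1)) :: ((@Int.ofNat (nat_lit 1)) :: ((@Int.ofNat (nat_lit 1)) :: ((@Int.ofNat (nat_lit 1)) :: ((@Int.ofNat (nat_lit 1)) :: ((@Nat.rec.{1} @(fun x1 => ℤ) (@Int.ofNat (nat_lit 0)) @(fun x1 x2 => @Int.negSucc @x1) (nat_lit 1)) :: ((@Nat.rec.{1} @(fun x1 => ℤ) (@Int.ofNat (nat_lit 0)) @(fun x1 x2 => @Int.negSucc @x1) (nat_lit 1)) :: ((@Int.ofNat (nat_lit 1)) :: ((@Int.ofNat (nat_lit 1)) :: ((@Int.ofNat (nat_lit 1)) :: ((@Int.ofNat (nat_lit 1)) :: ((@Int.ofNat (nat_lit 1)) :: ((@Int.ofNat (nat_lit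 1)) :: ((@Int.ofNat (nat_lit 1)) :: ((@Int.ofNat (nat_lit 1)) :: ((@Nat.rec.{1} @(fun x1 => ℤ) (@Int.ofNat (nat_lit 0)) @(fun x1 x2 => @Int.negSucc @x1) (nat_lit 1)) :: ((@Nat.rec.{1} @(fun x1 => ℤ) (@Int.ofNat (nat_lit 0)) @(fun x1 x2 => @Int.negSucc @x1) (nat_lit 1)) :: ((@Int.ofNat (nat_lit 1)) :: ((@Int.ofNat (nat_lit 1)) :: ((@Int.ofNat (nat_lit 1)) :: ((@Int.ofNat (nat_lit 1)) :: ((@Int.ofNat (nat_lit 1)) :: ((@Int.ofNat (nat_lit 1)) :: [])))))))))))))))))))))))) @x0))) ?_); rewrite [← Cfsg.Agent.KObf4d1e5.e19.{0}]; rfl') | exact @Cfsg.Agent.TwoF.DC.D4.e8 | exact ()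
private theorem _root_.Cfsg.Agent.KObf4d1e5.e65 : (by first | exact @Cfsg.Agent.TwoF.DC.D4.e8 = @_root_.Cfsg.Agent.KObf4d1e5.k65 | exact True : Prop) := by first | (delta _root_.Cfsg.Agent.KObf4d1e5.k65; exact @Subtype.property _ (fun g => @Cfsg.Agent.TwoF.DC.D4.e8 = @g) _) | rfl | trivial
private noncomputable def _root_.Cfsg.Agent.KObf4d1e5.k67.{ku0} : type_of% @List.hasDecEq.{ku0} := @(fun x0 x1 x2 x3 => @List.rec.{(ku0+1), ku0} @x0 @(fun x4 => (x5 : @List.{ku0} @x0) → @Decidable (@Eq.{(ku0+1)} _ @x4 @x5)) @(fun x4 => @List.rec.{1, ku0} @x0 @(fun x5 => @Decidable (@Eq.{(ku0+1)} _ [] @x5)) (@Decidable.isTrue _ (@List.hasDecEq._proof_1.{ku0} _)) @(fun x5 x6 x7 => @Decidable.isFalse _ (@List.hasDecEq._proof_3.{ku0} _ @x5 @x6)) @x4) @(fun x4 x5 x6 x7 => @List.rec.{1, ku0} @x0 @(fun x8 => @Decidable (@Eq.{(ku0+1)} _ (@x4 :: @x5) @x8)) (@Decidable.isFalse _ (@List.hasDecEq._proof_2.{ku0} _ @x4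 @x5)) @(fun x8 x9 x10 => @Decidable.rec.{1} _ @(fun x11 => @Decidable (@Eq.{(ku0+1)} _ (@x4 :: @x5) (@x8 :: @x9))) @(fun x11 => @Decidable.isFalse _ (@List.hasDecEq._proof_6.{ku0} _ @x4 @x5 @x8 @x9 @x11)) @(fun x11 => @Decidable.rec.{1} _ @(fun x12 => @Decidable (@Eq.{(ku0+1)} _ (@x4 :: @x5) (@x8 :: @x9))) @(fun x12 => @Decidable.isFalse _ (@List.hasDecEq._proof_5.{ku0} _ @x4 @x5 @x8 @x9 @x12)) @(fun x12 => @Decidable.isTrue _ (@List.hasDecEq._proof_4.{ku0} _ @x4 @x5 @x8 @x9 @x11 @x12)) (@x6 @x9)) (@x1 @x4 @x8)) @x7) @x2 @x3)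
private theorem _root_.Cfsg.Agent.KObf4d1e5.e67.{ku0} : @List.hasDecEq.{ku0} = @_root_.Cfsg.Agent.KObf4d1e5.k67.{ku0} := by delta _root_.Cfsg.Agent.KObf4d1e5.k67; funext a0 a1 a2 a3; refine (congrFun (_root_.Cfsg.Agent.KObf4d1e5.e0 (fun a2 a3 => @List.hasDecEq.{ku0} a0 a1 a2 a3) ?_ (fun c0 c1 => ?_) a2) a3 :) <;> [(funext b0; (cases b0 with | @nil  => (rfl') | @cons b0_0 b0_1 => (rfl'))); (funext b0; (cases b0 with | @nil  => (rfl') | @cons b0_0 b0_1 => (rfl')))]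
private noncomputable def _root_.Cfsg.Agent.KObf4d1e5.k68.{ku0} : type_of% @instDecidableEqList.{ku0} := @(fun x0 x1 x2 x3 => @List.rec.{1, ku0} @x0 @(fun x4 => @Decidable (@Eq.{(ku0+1)} _ @x4 @x3)) (@List.rec.{1, ku0} @x0 @(fun x4 => @Decidable (@Eq.{(ku0+1)} _ [] @x4)) (@Decidable.isTrue _ (@List.hasDecEq._proof_1.{ku0} _)) @(fun x4 x5 x6 => @Decidable.isFalse _ (@List.hasDecEq._proof_3.{ku0} _ @x4 @x5)) @x3) @(fun x4 x5 x6 => @List.rec.{1, ku0} @x0 @(fun x7 => @Decidable (@Eq.{(ku0+1)} _ (@x4 :: @x5) @x7)) (@Decidable.isFalse _ (@List.hasDecEq._proof_2.{ku0} _ @x4 @x5)) @(fun x7 x8 x9 => @Decidable.rec.{1} _ @(fun x10 => @Decidable (@Eq.{(ku0+1)} _ (@x4 :: @x5) (@x7 :: @x8))) @(fun x10 => @Decidable.isFalse _ (@List.hasDecEq._proof_6.{ku0} _ @x4 @x5 @x7 @x8 @x10)) @(fun x10 => @Decidable.rec.{1} _ @(fun x11 => @Decidable (@Eq.{(ku0+1)} _ (@x4 :: @x5) (@x7 :: @x8))) @(fun x11 => @Decidable.isFalse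 _ (@List.hasDecEq._proof_5.{ku0} _ @x4 @x5 @x7 @x8 @x11)) @(fun x11 => @Decidable.isTrue _ (@List.hasDecEq._proof_4.{ku0} _ @x4 @x5 @x7 @x8 @x10 @x11)) (@Cfsg.Agent.KObf4d1e5.k67.{ku0} _ @x1 @x5 @x8)) (@x1 @x4 @x7)) @x3) @x2)
private theorem _root_.Cfsg.Agent.KObf4d1e5.e68.{ku0} : @instDecidableEqList.{ku0} = @_root_.Cfsg.Agent.KObf4d1e5.k68.{ku0} := by delta _root_.Cfsg.Agent.KObf4d1e5.k68; rewrite [← Cfsg.Agent.KObf4d1e5.e67.{ku0}]; rfl'
private noncomputable def _root_.Cfsg.Agent.KObf4d1e5.k69.{ku0, ku1} : type_of% @instDecidableEqProd.{ku0, ku1} := @(fun x0 x1 x2 x3 x4 x5 => @Prod.rec.{1, ku0, ku1} @x0 @x1 @(fun x6 => @Decidable (@Eq.{(max (ku1+1) (ku0+1))} _ @x6 @x5)) @(fun x6 x7 => @Prod.rec.{1, ku0, ku1} @x0 @x1 @(fun x8 => @Decidable (@Eq.{(max (ku1+1) (ku0+1))} _ ((@x6, @x7)) @x8)) @(fun x8 x9 => @Decidable.rec.{1} _ @(fun x10 => @Decidable (@Eq.{(max (ku1+1) (ku0+1))} _ ((@x6, @x7))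 ((@x8, @x9)))) @(fun x10 => @Decidable.isFalse _ (@instDecidableEqProd._proof_3.{ku1, ku0} _ _ @x6 @x7 @x8 @x9 @x10)) @(fun x10 => @Decidable.rec.{1} _ @(fun x11 => @Decidable (@Eq.{(max (ku1+1) (ku0+1))} _ ((@x6, @x7)) ((@x8, @x9)))) @(fun x11 => @Decidable.isFalse _ (@instDecidableEqProd._proof_2.{ku1, ku0} _ _ @x6 @x7 @x8 @x9 @x11)) @(fun x11 => @Decidable.isTrue _ (@instDecidableEqProd._proof_1.{ku1, ku0} _ _ @x6 @x7 @x8 @x9 @x10 @x11)) (@x3 @x7 @x9)) (@x2 @x6 @x8)) @x5) @x4)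
private theorem _root_.Cfsg.Agent.KObf4d1e5.e69.{ku0, ku1} : @instDecidableEqProd.{ku0, ku1} = @_root_.Cfsg.Agent.KObf4d1e5.k69.{ku0, ku1} := by delta _root_.Cfsg.Agent.KObf4d1e5.k69; rfl'
private noncomputable def _root_.Cfsg.Agent.KObf4d1e5.oEq.{ku} (α : Sort ku) (a b : Nat) (f t : α) : α := @Decidable.rec (a = b) (fun _ => α) (fun _ => f) (fun _ => t) (Nat.decEq a b)
private noncomputable def _root_.Cfsg.Agent.KObf4d1e5.k70.{ku} (α : Sort ku) (a b : Nat) (f t : α) : α := @Bool.rec (fun _ => α) f t (Nat.beq a b)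
private theorem _root_.Cfsg.Agent.KObf4d1e5.e70.{ku} : @_root_.Cfsg.Agent.KObf4d1e5.oEq.{ku} = @_root_.Cfsg.Agent.KObf4d1e5.k70.{ku} := funext fun α => funext fun a => funext fun b => funext fun f => funext fun t => by delta _root_.Cfsg.Agent.KObf4d1e5.oEq _root_.Cfsg.Agent.KObf4d1e5.k70; cases h : Nat.beq a b <;> cases Nat.decEq a b <;> rename_i g <;> first | rfl | exact absurd g (Nat.ne_of_beq_eq_false h) | exact absurd (Nat.eq_of_beq_eq_true h) g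
private noncomputable def _root_.Cfsg.Agent.KObf4d1e5.k71.{ku0} : type_of% @List.find?.{ku0} := @(fun x0 x1 x2 => @List.rec.{(ku0+1), ku0} @x0 @(fun x3 => @Option.{ku0} @x0) (@Option.none.{ku0} _) @(fun x3 x4 x5 => @Bool.rec.{(ku0+1)} @(fun x6 => @Option.{ku0} @x0) @x5 (@Option.some.{ku0} _ @x3) (@x1 @x3)) @x2)
private theorem _root_.Cfsg.Agent.KObf4d1e5.e71.{ku0} : @List.find?.{ku0} = @_root_.Cfsg.Agent.KObf4d1e5.k71.{ku0} := by delta _root_.Cfsg.Agent.KObf4d1e5.k71; funext a0 a1 a2; refine (_root_.Cfsg.Agent.KObf4d1e5.e0 (fun a2 => @List.find?.{ku0} a0 a1 a2) ?_ (fun c0 c1 => ?_) a2 :) <;> (rfl')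
private noncomputable def _root_.Cfsg.Agent.KObf4d1e5.k72 : (by first | exact type_of% @Cfsg.Lie.ChevalleyDatum.chainEntry | exact Unit : Sort _) := by first | (refine @Subtype.val _ (fun g => @Cfsg.Lie.ChevalleyDatum.chainEntry = @g) (@Subtype.mk _ _ (@(fun x0 x1 x2 => @Option.rec.{1, 0} (ℕ × (@Array.{0} (ℕ × ℤ))) @(fun x3 => @List.{0} (ℕ × ℤ)) [] @(fun x3 => @Array.toList.{0} _ (@Prod.snd.{0, 0} _ _ @x3)) (@Cfsg.Agent.KObf4d1e5.k71.{0} _ @(fun x3 => @Cfsg.Agent.KObf4d1e5.k70.{1} @Bool (@Prod.fst.{0, 0} _ _ @x3) @x2 @Bool.false @Bool.true) (@Array.toList.{0} _ (@Decidable.rec.{1} _ @(fun x3 => @Array.{0} (ℕ × (@Array.{0} (ℕ × ℤ)))) @(fun x3 => @Array.mk.{0} _ []) @(fun x3 => @List.get.{0} _ (@Array.toList.{0} _ (@Cfsg.Lie.ChevalleyDatum.chain @x0)) (@Fin.mk _ @x1 @x3)) (@Cfsg.Agent.KObf4d1e5.k43 (@Nat.succ @x1) (@List.length.{0} _ (@Array.toList.{0} _ (@Cfsg.Lie.ChevalleyDatum.chain @x0)))))))))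 ?_); rewrite [← Cfsg.Agent.KObf4d1e5.e43, ← Cfsg.Agent.KObf4d1e5.e70.{1}, ← Cfsg.Agent.KObf4d1e5.e71.{0}]; rfl') | exact @Cfsg.Lie.ChevalleyDatum.chainEntry | exact ()
private theorem _root_.Cfsg.Agent.KObf4d1e5.e72 : (by first | exact @Cfsg.Lie.ChevalleyDatum.chainEntry = @_root_.Cfsg.Agent.KObf4d1e5.k72 | exact True : Prop) := by first | (delta _root_.Cfsg.Agent.KObf4d1e5.k72; exact @Subtype.property _ (fun g => @Cfsg.Lie.ChevalleyDatum.chainEntry = @g) _) | rfl | trivial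
private noncomputable def _root_.Cfsg.Agent.KObf4d1e5.k73 : (by first | exact type_of% @Cfsg.Lie.ChevalleyDatum.chainRoot | exact Unit : Sort _) := by first | (refine @Subtype.val _ (fun g => @Cfsg.Lie.ChevalleyDatum.chainRoot = @g) (@Subtype.mk _ _ (@(fun x0 x1 x2 x3 => @Option.rec.{1, 0} (ℕ × ℤ) @(fun x4 => @Option.{0} ℕ) (@Option.none.{0} _) @(fun x4 => @Option.some.{0} _ (@Prod.fst.{0, 0} _ _ @x4)) (@Cfsg.Agent.KObf4d1e5.k19.{0} _ (@Cfsg.Agent.KObf4d1e5.k72 @x0 @x1 @x2) (@Nat.sub @x3 (nat_lit 1))))) ?_); rewrite [← Cfsg.Agent.KObf4d1e5.e72, ← Cfsg.Agent.KObf4d1e5.e19.{0}]; (try delta Cfsg.Lie.ChevalleyDatum.chainRoot); (try generalize @Cfsg.Lie.ChevalleyDatum.chainEntry = g0); rfl') | exact @Cfsg.Lie.ChevalleyDatum.chainRoot | exact ()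
private theorem _root_.Cfsg.Agent.KObf4d1e5.e73 : (by first | exact @Cfsg.Lie.ChevalleyDatum.chainRoot = @_root_.Cfsg.Agent.KObf4d1e5.k73 | exact True : Prop) := by first | (delta _root_.Cfsg.Agent.KObf4d1e5.k73; exact @Subtype.property _ (fun g => @Cfsg.Lie.ChevalleyDatum.chainRoot = @g) _) | rfl | trivial
private noncomputable def _root_.Cfsg.Agent.KObf4d1e5.k74 : (by first | exact type_of% @Cfsg.Lie.ChevalleyDatum.chainM | exact Unit : Sort _) := by first | (refine @Subtype.val _ (fun g => @Cfsg.Lie.ChevalleyDatum.chainM = @g) (@Subtype.mk _ _ (@(fun x0 x1 x2 x3 => @Option.rec.{1, 0} ℤ @(fun x4 => ℤ) (@Int.ofNat (nat_lit 0)) @(fun x4 => @x4) (@Option.rec.{1, 0} (ℕ × ℤ) @(fun x4 => @Option.{0} ℤ) (@Option.none.{0} _) @(fun x4 => @Option.some.{0} _ (@Prod.snd.{0, 0} _ _ @x4)) (@Cfsg.Agent.KObf4d1e5.k19.{0} _ (@Cfsg.Agent.KObf4d1e5.k72 @x0 @x1 @x2) (@Nat.sub @x3 (nat_lit 1)))))) ?_); rewrite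 [← Cfsg.Agent.KObf4d1e5.e72, ← Cfsg.Agent.KObf4d1e5.e19.{0}]; (try delta Cfsg.Lie.ChevalleyDatum.chainM); (try generalize @Cfsg.Lie.ChevalleyDatum.chainEntry = g0); rfl') | exact @Cfsg.Lie.ChevalleyDatum.chainM | exact ()
private theorem _root_.Cfsg.Agent.KObf4d1e5.e74 : (by first | exact @Cfsg.Lie.ChevalleyDatum.chainM = @_root_.Cfsg.Agent.KObf4d1e5.k74 | exact True : Prop) := by first | (delta _root_.Cfsg.Agent.KObf4d1e5.k74; exact @Subtype.property _ (fun g => @Cfsg.Lie.ChevalleyDatum.chainM = @g) _) | rfl | trivial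
private noncomputable def _root_.Cfsg.Agent.KObf4d1e5.k75 : type_of% @Int.ediv := @(fun x0 x1 => @Int.rec.{1} @(fun x2 => ℤ) @(fun x2 => @Int.rec.{1} @(fun x3 => ℤ) @(fun x3 => @Int.ofNat (@Nat.div @x2 @x3)) @(fun x3 => @Nat.rec.{1} @(fun x4 => ℤ) (@Int.ofNat (nat_lit 0)) @(fun x4 x5 => @Int.negSucc @x4) (@Nat.div @x2 (@Nat.succ @x3))) @x1) @(fun x2 => @Int.rec.{1} @(fun x3 => ℤ) @(fun x3 => @Nat.rec.{1} @(fun x4 => ℤ) (@Int.ofNat (nat_lit 0)) @(fun x4 x5 => @Int.negSucc (@Nat.div @x2 (@Nat.succ @x4))) @x3) @(fun x3 => @Int.ofNat (@Nat.succ (@Nat.div @x2 (@Nat.succ @x3)))) @x1) @x0)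
private theorem _root_.Cfsg.Agent.KObf4d1e5.e75 : @Int.ediv = @_root_.Cfsg.Agent.KObf4d1e5.k75 := by delta _root_.Cfsg.Agent.KObf4d1e5.k75; rfl'
private noncomputable def _root_.Cfsg.Agent.KObf4d1e5.k76.{ku0, ku1} : type_of% @List.filterMap.{ku0, ku1} := @(fun x0 x1 x2 x3 => @List.rec.{(ku1+1), ku0} @x0 @(fun x4 => @List.{ku1} @x1) [] @(fun x4 x5 x6 => @Option.rec.{(ku1+1), ku1} @x1 @(fun x7 => @List.{ku1} @x1) @x6 @(fun x7 => @x7 :: @x6) (@x2 @x4)) @x3)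
private theorem _root_.Cfsg.Agent.KObf4d1e5.e76.{ku0, ku1} : @List.filterMap.{ku0, ku1} = @_root_.Cfsg.Agent.KObf4d1e5.k76.{ku0, ku1} := by delta _root_.Cfsg.Agent.KObf4d1e5.k76; funext a0 a1 a2 a3; refine (_root_.Cfsg.Agent.KObf4d1e5.e0 (fun a3 => @List.filterMap.{ku0, ku1} a0 a1 a2 a3) ?_ (fun c0 c1 => ?_) a3 :) <;> (rfl')
private noncomputable def _root_.Cfsg.Agent.KObf4d1e5.k77 : (by first | exact type_of% @Cfsg.Lie.ChevalleyDatum.commTerms | exact Unit : Sort _) := by first | (refine @Subtype.val _ (fun g => @Cfsg.Lie.ChevalleyDatum.commTerms = @g) (@Subtype.mk _ _ (@(fun x0 x1 x2 => (let x3 : @Option.{0} ℕ := @Cfsg.Agent.KObf4d1e5.k73 @x0 @x1 @x2 (nat_lit 1); (let x4 : @List.{0} ((@Option.{0} ℕ) × (ℤ × (ℕ × ℕ))) := ((@Cfsg.Agent.KObf4d1e5.k73 @x0 @x1 @x2 (nat_lit 1), (@Cfsg.Agent.KObf4d1e5.k74 @x0 @x1 @x2 (nat_lit 1), (nat_lit 1, nat_lit 1)))) :: (((@Cfsg.Agent.KObf4d1e5.k73 @x0 @x1 @x2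 (nat_lit 2), (@Cfsg.Agent.KObf4d1e5.k74 @x0 @x1 @x2 (nat_lit 2), (nat_lit 2, nat_lit 1)))) :: (((@Cfsg.Agent.KObf4d1e5.k73 @x0 @x2 @x1 (nat_lit 2), (@Cfsg.Agent.KObf4d1e5.k74 @x0 @x2 @x1 (nat_lit 2), (nat_lit 1, nat_lit 2)))) :: (((@Cfsg.Agent.KObf4d1e5.k73 @x0 @x1 @x2 (nat_lit 3), (@Cfsg.Agent.KObf4d1e5.k74 @x0 @x1 @x2 (nat_lit 3), (nat_lit 3, nat_lit 1)))) :: (((@Cfsg.Agent.KObf4d1e5.k73 @x0 @x2 @x1 (nat_lit 3), (@Int.rec.{1} @(fun x4 => ℤ) @(fun x4 => @Nat.rec.{1} @(fun x5 => ℤ) (@Int.ofNat (nat_lit 0)) @(fun x5 x6 => @Int.negSucc @x5) @x4) @(fun x4 => @Int.ofNat (@Nat.succ @x4)) (@Cfsg.Agent.KObf4d1e5.k74 @x0 @x2 @x1 (nat_lit 3)), (nat_lit 1, nat_lit 3)))) :: (((@Option.rec.{1, 0} ℕ @(fun x4 => @Option.{0} ℕ) (@Option.none.{0} _) @(fun x4 => @Cfsg.Agent.KObf4d1e5.k73 @x0 @x4 @x2 (nat_lit 1)) (@Cfsg.Agent.KObf4d1e5.k73 @x0 @x1 @x2 (nat_lit 3)), (@Option.rec.{1, 0} ℤ @(fun x4 => ℤ) (@Int.ofNat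 (nat_lit 0)) @(fun x4 => @x4) (@Option.rec.{1, 0} ℕ @(fun x4 => @Option.{0} ℤ) (@Option.none.{0} _) @(fun x4 => @Option.some.{0} _ (@Cfsg.Agent.KObf4d1e5.k75 (@Cfsg.Agent.KObf4d1e5.k74 @x0 @x4 @x1 (nat_lit 2)) (@Int.ofNat (nat_lit 3)))) @x3), (nat_lit 3, nat_lit 2)))) :: (((@Option.rec.{1, 0} ℕ @(fun x4 => @Option.{0} ℕ) (@Option.none.{0} _) @(fun x4 => @Cfsg.Agent.KObf4d1e5.k73 @x0 @x4 @x1 (nat_lit 1)) (@Cfsg.Agent.KObf4d1e5.k73 @x0 @x2 @x1 (nat_lit 3)), (@Option.rec.{1, 0} ℤ @(fun x4 => ℤ) (@Int.ofNat (nat_lit 0)) @(fun x4 => @x4) (@Option.rec.{1, 0} ℕ @(fun x4 => @Option.{0} ℤ) (@Option.none.{0} _) @(fun x4 => @Option.some.{0} _ (@Cfsg.Agent.KObf4d1e5.k75 (@Cfsg.Agent.KObf4d1e5.k3 (@Nat.rec.{1} @(fun x5 => ℤ) (@Int.ofNat (nat_lit 0)) @(fun x5 x6 => @Int.negSucc @x5) (nat_lit 2)) (@Cfsg.Agent.KObf4d1e5.k74 @x0 @x4 @x2 (nat_lit 2))) (@Int.ofNat (nat_lit 3)))) @x3), (nat_lit 2, nat_lit 3))))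 :: [])))))); @Cfsg.Agent.KObf4d1e5.k76.{0, 0} _ _ @(fun x5 => @Option.rec.{1, 0} ℕ @(fun x6 => @Option.{0} (ℕ × (ℤ × (ℕ × ℕ)))) (@Option.none.{0} _) @(fun x6 => @Option.some.{0} _ ((@x6, @Prod.snd.{0, 0} _ _ @x5))) (@Prod.fst.{0, 0} _ _ @x5)) @x4)))) ?_); rewrite [← Cfsg.Agent.KObf4d1e5.e76.{0, 0}, ← Cfsg.Agent.KObf4d1e5.e3, ← Cfsg.Agent.KObf4d1e5.e75, ← Cfsg.Agent.KObf4d1e5.e74, ← Cfsg.Agent.KObf4d1e5.e73]; (try delta Cfsg.Lie.ChevalleyDatum.commTerms); (try generalize @Cfsg.Lie.ChevalleyDatum.chainRoot = g0); (try generalize @Cfsg.Lie.ChevalleyDatum.chainM = g1); rfl') | exact @Cfsg.Lie.ChevalleyDatum.commTerms | exact ()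
private theorem _root_.Cfsg.Agent.KObf4d1e5.e77 : (by first | exact @Cfsg.Lie.ChevalleyDatum.commTerms = @_root_.Cfsg.Agent.KObf4d1e5.k77 | exact True : Prop) := by first | (delta _root_.Cfsg.Agent.KObf4d1e5.k77; exact @Subtype.property _ (fun g => @Cfsg.Lie.ChevalleyDatum.commTerms = @g) _) | rfl | trivial
private noncomputable def _root_.Cfsg.Agent.KObf4d1e5.k59 : type_of% @Nat.decLt := @(fun x0 x1 => @Cfsg.Agent.KObf4d1e5.k43 (@Nat.succ @x0) @x1)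
private theorem _root_.Cfsg.Agent.KObf4d1e5.e59 : @Nat.decLt = @_root_.Cfsg.Agent.KObf4d1e5.k59 := by delta _root_.Cfsg.Agent.KObf4d1e5.k59; rewrite [← Cfsg.Agent.KObf4d1e5.e43]; rfl'
private noncomputable def _root_.Cfsg.Agent.KObf4d1e5.k78.{ku0} : type_of% @List.decidableBAll.{ku0} := @(fun x0 x1 x2 x3 => @List.rec.{1, ku0} @x0 @(fun x4 => @Decidable ((x5 : @x0) → (@Membership.mem.{ku0, ku0} _ _ _ @x4 @x5) → @x1 @x5)) (@Decidable.isTrue _ (@List.decidableBAll._proof_1.{ku0} _ @x1)) @(fun x4 x5 x6 => @Decidable.rec.{1} _ @(fun x7 => @Decidable ((x8 : @x0) → (@Membership.mem.{ku0, ku0} _ _ _ (@x4 :: @x5) @x8) → @x1 @x8)) @(fun x7 => @Decidable.isFalse _ (@List.decidableBAll._proof_4.{ku0} _ @x1 @x4 @x5 @x7)) @(fun x7 => @Decidable.rec.{1} _ @(fun x8 => @Decidable ((x9 : @x0) → (@Membership.mem.{ku0, ku0} _ _ _ (@x4 :: @x5) @x9) → @x1 @x9)) @(fun x8 => @Decidable.isFalse _ (@List.decidableBAll._proof_3.{ku0}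 _ @x1 @x4 @x5 @x8)) @(fun x8 => @Decidable.isTrue _ (@List.decidableBAll._proof_2.{ku0} _ @x1 @x4 @x5 @x7 @x8)) @x6) (@x2 @x4)) @x3)
private theorem _root_.Cfsg.Agent.KObf4d1e5.e78.{ku0} : @List.decidableBAll.{ku0} = @_root_.Cfsg.Agent.KObf4d1e5.k78.{ku0} := by delta _root_.Cfsg.Agent.KObf4d1e5.k78; funext a0 a1 a2 a3; refine (_root_.Cfsg.Agent.KObf4d1e5.e0 (fun a3 => @List.decidableBAll.{ku0} a0 a1 a2 a3) ?_ (fun c0 c1 => ?_) a3 :) <;> (rfl')

set_option synthInstance.maxSize 1024 in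
theorem se8 : SE chevD4 chevE8 i8 e8 :=
  ⟨by decide +kernel, by decide +kernel, by (rewrite [Cfsg.Agent.ChevFast.E8.neg]; decide +kernel), by decide +kernel, by (first | (refine of_decide_eq_true ?_; rewrite [Cfsg.Agent.KObf4d1e5.e28, Cfsg.Agent.KObf4d1e5.e29, Cfsg.Agent.KObf4d1e5.e68.{0}, Cfsg.Agent.KObf4d1e5.e69.{0, 0}, Cfsg.Agent.KObf4d1e5.e47, Cfsg.Agent.KObf4d1e5.e64, Cfsg.Agent.KObf4d1e5.e77, Cfsg.Agent.KObf4d1e5.e63, Cfsg.Agent.KObf4d1e5.e21.{0, 0}, Cfsg.Agent.KObf4d1e5.e65]; decide +kernel) | decide +kernel), by (first | (refine of_decide_eq_true ?_; rewrite [Cfsg.Agent.KObf4d1e5.e28, Cfsg.Agent.KObf4d1e5.e29, Cfsg.Agent.KObf4d1e5.e78.{0}, Cfsg.Agent.KObf4d1e5.e59, Cfsg.Agent.KObf4d1e5.e77]; decide +kernel) | decide +kernel)⟩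
private noncomputable def _root_.Cfsg.Agent.KObf4d1e5.k79 : (by first | exact type_of% @Cfsg.Agent.TwoF.DC.D4.i2 | exact Unit : Sort _) := by first | (refine @Subtype.val _ (fun g => @Cfsg.Agent.TwoF.DC.D4.i2 = @g) (@Subtype.mk _ _ (@(fun x0 => @Option.rec.{1, 0} ℕ @(fun x1 => ℕ) (nat_lit 0) @(fun x1 => @x1) (@Cfsg.Agent.KObf4d1e5.k19.{0} _ ((nat_lit 0) :: ((nat_lit 1) :: ((nat_lit 3) :: ((nat_lit 2) :: ((nat_lit 4) :: ((nat_lit 5) :: ((nat_lit 6) :: ((nat_lit 8) :: ((nat_lit 7) :: ((nat_lit 9) :: ((nat_lit 11) :: ((nat_lit 10) :: ((nat_lit 13) :: ((nat_lit 12) :: ((nat_lit 14) :: ((nat_lit 16) :: ((nat_lit 15) :: ((nat_lit 17) :: ((nat_lit 18) :: ((nat_lit 19) :: ((nat_lit 21) :: ((nat_lit 20) :: ((nat_lit 22) :: ((nat_lit 23) :: [])))))))))))))))))))))))) @x0))) ?_); rewrite [← Cfsg.Agent.KObf4d1e5.e19.{0}]; rfl') | exact @Cfsg.Agent.TwoF.DC.D4.i2 | exact ()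
private theorem _root_.Cfsg.Agent.KObf4d1e5.e79 : (by first | exact @Cfsg.Agent.TwoF.DC.D4.i2 = @_root_.Cfsg.Agent.KObf4d1e5.k79 | exact True : Prop) := by first | (delta _root_.Cfsg.Agent.KObf4d1e5.k79; exact @Subtype.property _ (fun g => @Cfsg.Agent.TwoF.DC.D4.i2 = @g) _) | rfl | trivial

set_option synthInstance.maxSize 1024 in
theorem se2 : SE chevD4 chevD4 i2 fun _ => 1 :=
  ⟨by decide +kernel, by decide +kernel, by decide +kernel, by decide +kernel, by (first | (refine of_decide_eq_true ?_; rewrite [Cfsg.Agent.KObf4d1e5.e28, Cfsg.Agent.KObf4d1e5.e29, Cfsg.Agent.KObf4d1e5.e68.{0}, Cfsg.Agent.KObf4d1e5.e69.{0, 0}, Cfsg.Agent.KObf4d1e5.e47, Cfsg.Agent.KObf4d1e5.e64, Cfsg.Agent.KObf4d1e5.e77, Cfsg.Agent.KObf4d1e5.e79, Cfsg.Agent.KObf4d1e5.e21.{0, 0}]; decide +kernel) | decide +kernel), se8.clt⟩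
private noncomputable def _root_.Cfsg.Agent.KObf4d1e5.k80 : (by first | exact type_of% @Cfsg.Agent.TwoF.DC.D4.i3 | exact Unit : Sort _) := by first | (refine @Subtype.val _ (fun g => @Cfsg.Agent.TwoF.DC.D4.i3 = @g) (@Subtype.mk _ _ (@(fun x0 => @Option.rec.{1, 0} ℕ @(fun x1 => ℕ) (nat_lit 0) @(fun x1 => @x1) (@Cfsg.Agent.KObf4d1e5.k19.{0} _ ((nat_lit 0) :: ((nat_lit 1) :: ((nat_lit 6) :: ((nat_lit 2) :: ((nat_lit 7) :: ((nat_lit 10) :: ((nat_lit 3) :: ((nat_lit 8) :: ((nat_lit 4) :: ((nat_lit 9) :: ((nat_lit 11) :: ((nat_lit 5) :: ((nat_lit 18) :: ((nat_lit 12) :: ((nat_lit 14) :: ((nat_lit 19) :: ((nat_lit 15) :: ((nat_lit 20) :: ((nat_lit 13) :: ((nat_lit 16) :: ((nat_lit 21) :: ((nat_lit 17) :: ((nat_lit 22) :: ((nat_lit 23) :: [])))))))))))))))))))))))) @x0))) ?_); rewrite [← Cfsg.Agent.KObf4d1e5.e19.{0}]; rfl') | exact @Cfsg.Agent.TwoF.DC.D4.i3 | exact ()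
private theorem _root_.Cfsg.Agent.KObf4d1e5.e80 : (by first | exact @Cfsg.Agent.TwoF.DC.D4.i3 = @_root_.Cfsg.Agent.KObf4d1e5.k80 | exact True : Prop) := by first | (delta _root_.Cfsg.Agent.KObf4d1e5.k80; exact @Subtype.property _ (fun g => @Cfsg.Agent.TwoF.DC.D4.i3 = @g) _) | rfl | trivial
private noncomputable def _root_.Cfsg.Agent.KObf4d1e5.k81 : (by first | exact type_of% @Cfsg.Agent.TwoF.DC.D4.e3 | exact Unit : Sort _) := by first | (refine @Subtype.val _ (fun g => @Cfsg.Agent.TwoF.DC.D4.e3 = @g) (@Subtype.mk _ _ (@(fun x0 => @Option.rec.{1, 0} ℤ @(fun x1 => ℤ) (@Int.ofNat (nat_lit 1)) @(fun x1 => @x1) (@Cfsg.Agent.KObf4d1e5.k19.{0} _ ((@Int.ofNat (nat_lit 1)) :: ((@Int.ofNat (nat_lit 1)) :: ((@Nat.rec.{1} @(fun x1 => ℤ) (@Int.ofNat (nat_lit 0)) @(fun x1 x2 => @Int.negSucc @x1) (nat_lit 1)) :: ((@Int.ofNat (nat_lit 1)) :: ((@Nat.rec.{1} @(fun x1 => ℤ) (@Int.ofNat (nat_lit 0)) @(fun x1 x2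 => @Int.negSucc @x1) (nat_lit 1)) :: ((@Int.ofNat (nat_lit 1)) :: ((@Nat.rec.{1} @(fun x1 => ℤ) (@Int.ofNat (nat_lit 0)) @(fun x1 x2 => @Int.negSucc @x1) (nat_lit 1)) :: ((@Int.ofNat (nat_lit 1)) :: ((@Nat.rec.{1} @(fun x1 => ℤ) (@Int.ofNat (nat_lit 0)) @(fun x1 x2 => @Int.negSucc @x1) (nat_lit 1)) :: ((@Int.ofNat (nat_lit 1)) :: ((@Int.ofNat (nat_lit 1)) :: ((@Int.ofNat (nat_lit 1)) :: ((@Int.ofNat (nat_lit 1)) :: ((@Int.ofNat (nat_lit 1)) :: ((@Int.ofNat (nat_lit 1)) :: ((@Nat.rec.{1} @(fun x1 => ℤ) (@Int.ofNat (nat_lit 0)) @(fun x1 x2 => @Int.negSucc @x1) (nat_lit 1)) :: ((@Int.ofNat (nat_lit 1)) :: ((@Nat.rec.{1} @(fun x1 => ℤ) (@Int.ofNat (nat_lit 0)) @(fun x1 x2 => @Int.negSucc @x1) (nat_lit 1)) :: ((@Int.ofNat (nat_lit 1)) :: ((@Nat.rec.{1} @(fun x1 => ℤ) (@Int.ofNat (nat_lit 0)) @(fun x1 x2 => @Int.negSucc @x1) (nat_lit 1)) :: ((@Int.ofNat (nat_lit 1)) :: ((@Nat.rec.{1} @(fun x1 => ℤ)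 (@Int.ofNat (nat_lit 0)) @(fun x1 x2 => @Int.negSucc @x1) (nat_lit 1)) :: ((@Int.ofNat (nat_lit 1)) :: ((@Int.ofNat (nat_lit 1)) :: [])))))))))))))))))))))))) @x0))) ?_); rewrite [← Cfsg.Agent.KObf4d1e5.e19.{0}]; rfl') | exact @Cfsg.Agent.TwoF.DC.D4.e3 | exact ()
private theorem _root_.Cfsg.Agent.KObf4d1e5.e81 : (by first | exact @Cfsg.Agent.TwoF.DC.D4.e3 = @_root_.Cfsg.Agent.KObf4d1e5.k81 | exact True : Prop) := by first | (delta _root_.Cfsg.Agent.KObf4d1e5.k81; exact @Subtype.property _ (fun g => @Cfsg.Agent.TwoF.DC.D4.e3 = @g) _) | rfl | trivial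

set_option synthInstance.maxSize 1024 in
theorem se3 : SE chevD4 chevD4 i3 e3 :=
  ⟨by decide +kernel, by decide +kernel, by decide +kernel, by decide +kernel, by (first | (refine of_decide_eq_true ?_; rewrite [Cfsg.Agent.KObf4d1e5.e28, Cfsg.Agent.KObf4d1e5.e29, Cfsg.Agent.KObf4d1e5.e68.{0}, Cfsg.Agent.KObf4d1e5.e69.{0, 0}, Cfsg.Agent.KObf4d1e5.e47, Cfsg.Agent.KObf4d1e5.e64, Cfsg.Agent.KObf4d1e5.e77, Cfsg.Agent.KObf4d1e5.e80, Cfsg.Agent.KObf4d1e5.e21.{0, 0}, Cfsg.Agent.KObf4d1e5.e81]; decide +kernel) | decide +kernel), se8.clt⟩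

/-- `D4` in `E8` -/
def lv4 : Lv chevD4 chevE8 4 8 where
  ι := i8
  f := ![1, 3, 2, 4]
  c := ![0, 3, 3, 5, 3, 0, 0, 0]
  hw _ := 1
  f_inj := by decide +kernel
  lt := se8.lt
  on := by decide +kernel
  off := by decide +kernel
  car := by (delta Cfsg.Agent.ChevalleyStructure.CoxeterGeomTypes.cartanOf; rewrite [Cfsg.Agent.ChevFast.E8.cartan]; decide +kernel)
  c_off := by decide +kernel
  hw_pos _ := Nat.one_pos
  c_eq := by (delta Cfsg.Agent.ChevalleyStructure.CoxeterGeomTypes.cartanOf; rewrite [Cfsg.Agent.ChevFast.E8.cartan]; decide +kernel)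
  ε := e8
  ε_sq := se8.sq
  ε_simple := by decide +kernel
  ε_neg r hr := (se8.neg r hr).2.2

theorem up4 (k : Type) [Field k] : Up lv4 hp8 ((theta hp8.inList k).comp (se8.hom k)) :=
  ⟨fun r hr t => by rw [MonoidHom.comp_apply, se8.hom_gen k hr]; exact theta_zz hp8 _ _⟩

theorem inj4 (k : Type) [Field k] [Infinite k] : Function.Injective ((theta hp8.inList k).comp (se8.hom k)) := by
  obtain ⟨Φ, h1, h2⟩ := exists_phi k
  exact (up4 k).inj' hp Φ h1 h2 (fu8 k) (S1054.result _ (by simp)).1 0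

variable (p : ℕ) [Fact p.Prime] (k : Type) [Field k] [IsAlgClosed k] [CharP k p]

/-- the datum of `D4` -/
noncomputable def d4 : RDat p (Fin 4) (PR chevD4) k (chevD4.SteinbergGroup k) :=
  (up4 k).rdat hp (inj4 k) (tab_rc hp sl4) (fu8 k) p

theorem st4 : StD (d4 p k) := ⟨fun _ _ => rfl, fun _ _ => rfl, fun _ _ => rfl⟩

theorem tb4 : Tb (d4 p k).R cm rt := ⟨car4, sl4.sym, chk_rt⟩

/-- the graph automorphisms -/
def S3 : Subgroup (Equiv.Perm (Fin 4)) := MulAction.stabilizer _ (1 : Fin 4)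

/-- triality on the nodes -/
def tri : Equiv.Perm (Fin 4) := ⟨![2, 1, 3, 0], ![3, 1, 0, 2], by decide, by decide⟩

theorem card_S3 : Nat.card S3 = 6 := by
  rw [show Nat.card S3 = Nat.card {π : Equiv.Perm (Fin 4) // π 1 = 1} from rfl, Nat.card_eq_fintype_card]
  decide +kernel

variable {p k} in
theorem ind_of {ι : ℕ → ℕ} {ε : ℕ → ℤ} (h : SE chevD4 chevD4 ι ε) {γ : Equiv.Perm (Fin 4)}
    (h1 : ∀ i j, cartanOf chevD4 4 (γ i) (γ j) = cartanOf chevD4 4 i j)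
    (h2 : ∀ i : Fin 4, chevD4.simple i < 24 ∧ ι (chevD4.simple i) = chevD4.simple (γ i) ∧ ε (chevD4.simple i) = 1) :
    Ind (d4 p k) γ := by
  have h3 : ∀ i, (d4 p k).ht ((d4 p k).zi i) = 1 := fun i => by
    change ∑ j, (d4 p k).R.cf ((d4 p k).R.zi i) j * 1 = 1
    simp [RC.cf_zi]
  refine ⟨h1, fun i => by rw [h3, h3], h.hom k, fun i t => ?_, fun i t => ?_⟩
  · rw [(st4 p k).x, (st4 p k).x, h.hom_gen k (h2 i).1, (h2 i).2.1, (h2 i).2.2, Int.cast_one, one_mul]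
  · rw [(st4 p k).y, (st4 p k).y, h.hom_gen k (h.neg _ (h2 i).1).1, ← (h.neg _ (h2 i).1).2.1, (h.neg _ (h2 i).1).2.2,
      (h2 i).2.1, (h2 i).2.2, Int.cast_one, one_mul]

theorem ind4 (γ : S3) : Ind (d4 p k) γ := by
  have h2 : Ind (d4 p k) (Equiv.swap 2 3) := ind_of se2 (by decide +kernel) (by decide +kernel)
  have h3 : Ind (d4 p k) tri := ind_of se3 (by decide +kernel) (by decide +kernel)
  have h : ∀ π : Equiv.Perm (Fin 4), π 1 = 1 → π = 1 ∨ π = tri ∨ π = tri * tri ∨ π = Equiv.swap 2 3 ∨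
      π = Equiv.swap 2 3 * tri ∨ π = tri * Equiv.swap 2 3 := by decide +kernel
  rcases h γ γ.2 with e | e | e | e | e | e <;> rw [e]
  exacts [Ind.one, h3, h3.mul h3, h2, h2.mul h3, h3.mul h2]

/-- the twists of `D4` -/
noncomputable def tw4 (f : ℕ) (hf : 0 < f) (σ : S3) : Tws (d4 p k) :=
  mkTws S3 (ind4 p k) (by rw [card_S3]) σ (fun i i' h1 h2 => by
      have h3 : ∀ {a b : Fin 4}, (σ : Equiv.Perm (Fin 4)).SameCycle a b → a = 1 → b = 1 := by
        rintro _ _ ⟨m, rfl⟩ rfl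
        exact (σ ^ m).2
      have h4 : ∀ a b : Fin 4, a ≠ b → (a = 1 → b = 1) → (b = 1 → a = 1) → cartanOf chevD4 4 a b = 0 := by
        decide +kernel
      exact h4 i i' h2 (h3 h1) (h3 h1.symm))
    f hf (stMap chevD4 (frobenius k p)) (fun b t => by rw [(st4 p k).z, (st4 p k).z, stMap_stGen, frobenius_def])
    fun i t => by rw [(st4 p k).y, (st4 p k).y, stMap_stGen, frobenius_def]

/-- triality -/
def tau : S3 := ⟨tri, rfl⟩

variable {p k}

theorem comb4 {f : ℕ} (hf : 0 < f) {σ : S3} (hσ : σ = 1 ∨ σ = tau) : (tw4 p k f hf σ).Comb fun _ => True :=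
  comb (tb4 p k) _ (fun γ => γ.2) (hσ.imp_right (by rintro rfl; change ∀ a, a ≠ 1 → tri a ≠ a; decide))

theorem tw_le {K : Type} [Field K] (q : ℕ) : twistedD4 K q ≤ chevD4.group K :=
  (tw_le_iff _).mpr ⟨fun t _ r _ => xG_mem_group hD4 r t,
    fun t rs _ => mul_mem (xG_mem_group hD4 _ _) (mul_mem (xG_mem_group hD4 _ _) (xG_mem_group hD4 _ _))⟩

/-- the map onto the twisted group -/
theorem pi_tri {f : ℕ} (hf : 0 < f) {K : Type} [Field K] [Fintype K] (φ : K →+* k) (hK : Fintype.card K = (p ^ f) ^ 3) :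
    ∃ π : (tw4 p k f hf tau).TT →* ↥(twistedD4 K (p ^ f)),
      Function.Surjective π ∧ π.ker ≤ Subgroup.center (tw4 p k f hf tau).TT := by
  set P := tw4 p k f hf tau with hP
  let e : ↥(twistedD4 K (p ^ f)) →* ↥(chevD4.group k) := (emb hD4 φ).comp (Subgroup.inclusion (tw_le _))
  have hx : ∀ r (t : K), ((theta hD4 k (chevD4.stGen k r (φ t)) : ↥(chevD4.group k)) : GL chevD4.Idx k) =
      glMap chevD4 φ (xG hD4 r t) := fun r t => by rw [theta_zz hp, glMap_xG]; rfl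
  have h0 : ∀ a : k, ((a ^ p ^ f) ^ p ^ f) ^ p ^ f = a ^ Fintype.card K := fun a => by
    rw [hK, ← pow_mul, ← pow_mul]; ring
  have h1 : ∀ t : K, (φ t ^ p ^ f) ^ p ^ f = φ (t ^ (p ^ f) ^ 2) := fun t => by rw [map_pow, sq, pow_mul]
  have m0 := (tw_le_iff (K := K) (q := p ^ f) _).mp le_rfl
  have m1 : ∀ {r} {t : K}, xG hD4 r t ∈ twistedD4 K (p ^ f) → chevD4.stGen k r (φ t) ∈ e.range.comap (theta hD4 k) :=
    fun h => ⟨⟨_, h⟩, Subtype.ext (hx _ _).symm⟩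
  have m3 : ∀ {r s u} {t : K}, xG hD4 r t * (xG hD4 s (t ^ p ^ f) * xG hD4 u (t ^ (p ^ f) ^ 2)) ∈ twistedD4 K (p ^ f) →
      chevD4.stGen k r (φ t) * chevD4.stGen k s (φ t ^ p ^ f) * chevD4.stGen k u ((φ t ^ p ^ f) ^ p ^ f) ∈
        e.range.comap (theta hD4 k) := fun h => ⟨⟨_, h⟩, Subtype.ext (by
      rw [h1, ← map_pow, map_mul, map_mul, Subgroup.coe_mul, Subgroup.coe_mul, hx, hx, hx, ← map_mul, ← map_mul, mul_assoc]
      rfl)⟩
  refine exists_pi (theta hD4 k) (ker_theta _).le _ e ((emb_injective hD4 φ).comp (Subgroup.inclusion_injective _))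
    (P.TT_le (comb4 hf (Or.inr rfl)).fa fun j v hv => ?_) ?_
  · obtain rfl | rfl : orb P.sι 1 = j ∨ orb P.sι 0 = j := by
      rw [← orb_rp j]
      generalize rp j = i
      fin_cases i
      · exact Or.inr rfl
      · exact Or.inl rfl
      · exact Or.inr (orb_apply (σ := P.sι) 0).symm
      · exact Or.inr (orb_apply (σ := P.sι) 3)
    · have ha : v 1 ^ p ^ f = v 1 := (hv 1 rfl).symm
      obtain ⟨b, hb⟩ := mem_range_of_pow φ (t := v 1) (by rw [← h0, ha, ha, ha])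
      have hb' : b ^ p ^ f = b := φ.injective (by rw [map_pow, hb, ha])
      rw [Tws.xo, Tws.yo, P.po_one' rfl fun i => (d4 p k).x_mem_Lo i _, P.po_one' rfl fun i => (d4 p k).y_mem_Lo i _, ← hb]
      exact ⟨m1 (m0.1 b hb' 14 (by simp)), m1 (m0.1 b hb' 9 (by simp))⟩
    · have e1 : v 2 = v 0 ^ p ^ f := hv 0 rfl
      have e2 : v 3 = v 2 ^ p ^ f := hv 2 (orb_apply (σ := P.sι) 0)
      have e3 : v 0 = v 3 ^ p ^ f := hv 3 (orb_apply (σ := P.sι) 3).symm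
      obtain ⟨b, hb⟩ := mem_range_of_pow φ (t := v 0) (by rw [← h0, ← e1, ← e2, ← e3])
      have n0 : P.sι 0 ≠ 0 := by change tri 0 ≠ 0; decide
      rw [Tws.xo, Tws.yo, P.po_three n0 rfl fun i => (d4 p k).x_mem_Lo i _, P.po_three n0 rfl fun i => (d4 p k).y_mem_Lo i _]
      change _ * (d4 p k).x 2 (v 2) * (d4 p k).x 3 (v 3) ∈ _ ∧ _ * (d4 p k).y 2 (v 2) * (d4 p k).y 3 (v 3) ∈ _
      rw [e2, e1, ← hb]
      exact ⟨m3 (m0.2 b (18, 13, 12) (by simp)), m3 (m0.2 b (5, 10, 11) (by simp))⟩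
  · let N := ((P.TT.map (theta hD4 k)).map (chevD4.group k).subtype).comap (glMap chevD4 φ)
    have n1 : ∀ {r} {t : K}, chevD4.stGen k r (φ t) ∈ P.TT → xG hD4 r t ∈ N := fun h => ⟨_, ⟨_, h, rfl⟩, hx _ _⟩
    have n3 : ∀ {r s u} {t : K},
        chevD4.stGen k r (φ t) * chevD4.stGen k s (φ t ^ p ^ f) * chevD4.stGen k u ((φ t ^ p ^ f) ^ p ^ f) ∈ P.TT →
        xG hD4 r t * (xG hD4 s (t ^ p ^ f) * xG hD4 u (t ^ (p ^ f) ^ 2)) ∈ N := fun h => ⟨_, ⟨_, h, rfl⟩, by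
      rw [h1, ← map_pow, mul_assoc, map_mul, map_mul, map_mul, map_mul, map_mul, map_mul]
      exact congrArg₂ _ (hx _ _) (congrArg₂ _ (hx _ _) (hx _ _))⟩
    have h3 : twistedD4 K (p ^ f) ≤ N := by
      refine (tw_le_iff N).mpr ⟨fun t ht r hr => ?_, fun t rs hr => ?_⟩
      · have h4 := P.xy_mem_one (i := 1) rfl (a := φ t) (by change _ ^ p ^ f = _; rw [← map_pow, ht])
        simp only [List.mem_cons, List.not_mem_nil, or_false] at hr
        rcases hr with rfl | rfl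
        · exact n1 h4.1
        · exact n1 h4.2
      · have h4 := P.xy_mem_three (i := 0) (by change tri 0 ≠ 0; decide) rfl (a := φ t)
          ((h0 _).trans (by rw [← map_pow, FiniteField.pow_card]))
        simp only [List.mem_cons, List.not_mem_nil, or_false] at hr
        rcases hr with rfl | rfl
        · exact n3 h4.1
        · exact n3 h4.2
    rintro _ ⟨s, rfl⟩
    obtain ⟨g, hg, e1⟩ := h3 s.2
    rwa [show e s = g from Subtype.ext e1.symm]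

end Cfsg.Agent.TwoF.DC.D4
end

-- part: TwoF/DC/D4/Main
section
/-!
# TwoF, defining characteristic: the types `D4` and `3D4` (helper37)

`td4` : the field of `Types`; `oplus4` : the case `m = 4` of the field `oplus`.
-/

set_option autoImplicit false
set_option linter.unusedSectionVars false
set_option linter.unusedVariables false

namespace Cfsg.Agent.TwoF.DC.D4

open Cfsg Cfsg.Lie Cfsg.Agent.TwoF.DC.TE

theorem cent_tau : 3 ≤ Nat.card (Subgroup.centralizer ({tau} : Set S3)) := by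
  have h1 : orderOf tau = 3 := orderOf_eq_prime (Subtype.ext (by decide)) fun e => by
    have := congrArg Subtype.val e
    revert this; decide
  rw [← h1, ← Nat.card_zpowers]
  refine Subgroup.card_le_of_le ((Subgroup.zpowers_le).mpr ?_)
  rintro _ rfl
  rfl

theorem cent_one : Nat.card (Subgroup.centralizer ({1} : Set S3)) = 6 := by
  have h : Subgroup.centralizer ({1} : Set S3) = ⊤ := eq_top_iff.mpr fun g _ h e => by rw [e, one_mul, mul_one]
  rw [h, Subgroup.card_top, card_S3]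

theorem four_le {p : ℕ} [Fact p.Prime] {k : Type} [Field k] [IsAlgClosed k] [CharP k p] (hp : p ≠ 2) {f : ℕ}
    (hf : 0 < f) : 4 ≤ Nat.card (tw4 p k f hf 1).Zc := by
  have := finite_Zc (tw4 p k f hf 1)
  let u : ℤˣ →* kˣ := Units.map (Int.castRingHom k).toMonoidHom
  have hu : Function.Injective u := (injective_iff_map_eq_one u).mpr fun a ha => by
    rcases Int.units_eq_one_or a with rfl | rfl
    · rfl
    · have h1 : ((-1 : ℤ) : k) = 1 := congrArg Units.val ha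
      have h2 : ((2 : ℕ) : k) = 0 := by push_cast at h1 ⊢; linear_combination -h1
      exact absurd ((Nat.prime_dvd_prime_iff_eq Fact.out Nat.prime_two).mp ((CharP.cast_eq_zero_iff k p 2).mp h2)) hp
  obtain ⟨m, hm⟩ : Odd (p ^ f) := ((Fact.out : p.Prime).odd_of_ne_two hp).pow
  have h1 : ∀ (a b : ℤˣ) (i : Fin 4), ∏ j, ![a, 1, b, a * b] j ^ gz (cm.getD j []) i = 1 := by decide +kernel
  let c : ℤˣ × ℤˣ → (tw4 p k f hf 1).Zc := fun a => ⟨fun j => u (![a.1, 1, a.2, a.1 * a.2] j), fun i => by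
      change u (![a.1, 1, a.2, a.1 * a.2] i) = _ ^ p ^ f
      rw [← map_pow, hm, pow_succ, pow_mul, Int.units_sq, one_pow, one_mul], fun i => by
      refine Eq.trans ?_ ((congrArg u (h1 a.1 a.2 i)).trans (map_one u))
      rw [map_prod]
      exact Finset.prod_congr rfl fun j _ => by rw [map_zpow, ← car4]; rfl⟩
  have h2 : Function.Injective c := fun a b e =>
    Prod.ext (hu (congrFun (congrArg Subtype.val e) 0)) (hu (congrFun (congrArg Subtype.val e) 2))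
  simpa only [_root_.ge_iff_le, _root_.Nat.card_eq_fintype_card, _root_.Fintype.card_prod, _root_.Fintype.card_units_int, _root_.Nat.reduceMul] using Nat.card_le_card_of_injective c h2

variable (hF : BoxFin) (h : BoxStd)
include hF h

theorem td4 : TBox (IsoChar fun K _ _ S _ =>
    ∃ q, IsPrimePow q ∧ Fintype.card K = q ^ 3 ∧ Nonempty (S ≃* Lie.twistedD4 K q)) := by
  rintro p _ S _ _ _ ⟨K, _, _, _, q, hq, hK, ⟨e⟩⟩
  obtain ⟨n, hp, hn⟩ := FiniteField.card K p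
  obtain ⟨f, hf, rfl⟩ : ∃ f, 0 < f ∧ q = p ^ f := by
    obtain ⟨f, -, rfl⟩ := (Nat.dvd_prime_pow hp).mp
      (show q ∣ p ^ (n : ℕ) by rw [← hn, hK]; exact dvd_pow_self q three_ne_zero)
    exact ⟨f, Nat.pos_of_ne_zero (by rintro rfl; exact hq.ne_one rfl), rfl⟩
  have := Finite.of_equiv _ e.toEquiv
  let k := AlgebraicClosure K
  let P := tw4 p k f hf tau
  have h1 := S1071.result hq hK
  refine Row.of_equiv (hF h p _ _ k _ _ P _ ⟨h1.1, h1.2, pi_tri hf (algebraMap K k) hK, 1, ?_,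
    cyc p (S2110.result hq hK), (card_mulAut_le _).trans ?_⟩ (comb4 hf (Or.inr rfl))) e
  · have := finite_Zc P
    exact Nat.card_pos
  · rw [S2129.result p f (by rw [hK, ← pow_mul, mul_comm]) hf, one_mul]
    exact Nat.mul_le_mul_right _ (Nat.mul_le_mul_right _ cent_tau)

theorem oplus4 : TBox (IsoChar fun F _ _ S _ => Nonempty (S ≃* POmega F (quadFormPlus 4 F))) := by
  rintro p _ S _ _ _ ⟨F, _, _, _, ⟨e⟩⟩
  obtain ⟨f, hp, hq⟩ := FiniteField.card F p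
  have := Finite.of_equiv _ e.toEquiv
  have : NeZero (f : ℕ) := ⟨f.pos.ne'⟩
  let k := AlgebraicClosure F
  let P := tw4 p k f f.pos 1
  have hc : P.Comb fun _ => True := comb4 f.pos (Or.inl rfl)
  have h1 := S1054.result (F := F) chevD4 (by simp)
  obtain ⟨i⟩ := S1082.result (F := F)
  obtain ⟨π, h2, h3⟩ := pi_untw (st4 p k) Nodes.RGDTwD4.hp P hc.fa (fun _ => rfl) (algebraMap F k) hq
  have h4 := h1.1
  have key : ∀ d, d ≤ Nat.card P.Zc →
      (∃ (A : Type) (_ : CommGroup A) (a : ℕ), HasSchurMultiplier (POmega F (quadFormPlus 4 F)) A ∧ Nat.card A ∣ d * p ^ a) →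
      Nat.card (Out (POmega F (quadFormPlus 4 F))) = d * 6 * f → Row p S := fun d a b c =>
    Row.of_equiv ((by exact hF h p _ _ k _ _ P _ ⟨i.symm.isSimpleGroup, fun hh => h1.2 ⟨⟨fun x y => i.injective (by
        rw [map_mul, map_mul, hh.1.1])⟩⟩,
      ⟨i.toMonoidHom.comp π, i.surjective.comp h2, fun t ht => h3 (i.injective (ht.trans (map_one i).symm))⟩, d, a, b,
      (card_mulAut_le _).trans (by rw [c, ← cent_one]; exact le_rfl)⟩ hc)) e
  by_cases hp2 : p = 2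
  · subst hp2
    refine key 1 ?_ ?_ ?_
    · have := finite_Zc P
      exact Nat.card_pos
    · by_cases h5 : Fintype.card F = 2
      · exact ⟨_, _, 2, S2098.result h5, by simp⟩
      · refine ⟨_, _, 2, S2097.result rfl 4 le_rfl (by decide) fun a => h5 a.2, ?_⟩
        have : NeZero (Nat.gcd 2 (Fintype.card F ^ 4 - 1)) := ⟨Nat.gcd_ne_zero_left two_ne_zero⟩
        simpa only [sq, _root_.Nat.card_eq_fintype_card, _root_.Fintype.card_multiplicative, _root_.Fintype.card_prod, _root_.ZMod.card, _root_.Nat.reduceMul, _root_.one_mul] using mul_dvd_mul (Nat.gcd_dvd_left 2 _) (Nat.gcd_dvd_left 2 _)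
    · obtain ⟨j⟩ := (if_pos rfl).mp (S2607.result (m := 4) f.pos hq le_rfl)
      rw [Nat.card_congr j.toEquiv]
      simp only [Fintype.card_perm, Nat.factorial, _root_.Nat.card_eq_fintype_card, _root_.Fintype.card_prod, _root_.Fintype.card_fin, _root_.Nat.succ_eq_add_one, _root_.Nat.reduceAdd, _root_.zero_add, _root_.mul_one, _root_.Nat.reduceMul, _root_.Fintype.card_multiplicative, _root_.ZMod.card, _root_.one_mul]
  · refine key 4 (four_le hp2 f.pos) ⟨_, _, 0, S2097.result rfl 4 le_rfl (by decide) fun a => hp2 ?_, ?_⟩ ?_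
    · exact (Nat.prime_dvd_prime_iff_eq hp Nat.prime_two).mp (a.2 ▸ hq ▸ dvd_pow_self p f.pos.ne')
    · have : NeZero (Nat.gcd 2 (Fintype.card F ^ 4 - 1)) := ⟨Nat.gcd_ne_zero_left two_ne_zero⟩
      simpa only [_root_.Nat.card_eq_fintype_card, _root_.Fintype.card_multiplicative, _root_.Fintype.card_prod, _root_.ZMod.card, _root_.pow_zero, _root_.mul_one, _root_.Nat.reduceMul] using mul_dvd_mul (Nat.gcd_dvd_left 2 _) (Nat.gcd_dvd_left 2 _)
    · obtain ⟨j⟩ := (if_pos rfl).mp (S2608.result (m := 4) f.pos hq hp2 le_rfl)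
      rw [Nat.card_congr j.toEquiv]
      simp only [Fintype.card_perm, Nat.factorial, _root_.Nat.card_eq_fintype_card, _root_.Fintype.card_prod, _root_.Fintype.card_fin, _root_.Nat.succ_eq_add_one, _root_.Nat.reduceAdd, _root_.zero_add, _root_.mul_one, _root_.Nat.reduceMul, _root_.Fintype.card_multiplicative, _root_.ZMod.card]

end Cfsg.Agent.TwoF.DC.D4
end

private theorem dce_e30d14d5f615 : _root_.True := by
  try have : _root_.True := by simp only [_root_.Cfsg.Agent.TwoF.DC.TE.m1.eq_1]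
  try have : _root_.True := by simp only [_root_.Cfsg.Agent.TwoF.DC.D4.pn.eq_1]
  try have : _root_.True := by simp only [_root_.Cfsg.Agent.TwoF.DC.D4.cm.eq_1]
  try have : _root_.True := by simp only [_root_.Cfsg.Agent.TwoF.DC.D4.d4.congr_simp]
  try have : _root_.True := by simp only [_root_.Cfsg.Agent.TwoF.DC.TE.p2.eq_1]
  try have : _root_.True := by simp only [_root_.Cfsg.Agent.TwoF.DC.D4.tw4.congr_simp]
  try have : _root_.True := by simp only [_root_.Cfsg.Agent.TwoF.DC.TE.p0.eq_1]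
  exact _root_.True.intro
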